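import Cfsg.Agent.Lib.Helper9.TCData.TTP0.Main

set_option autoImplicit false
set_option maxRecDepth 1000000

namespace Cfsg.Agent.Helper9.TCData.TTP0
open Cfsg.Agent.Helper9.TC2 Cfsg.Agent.Helper9.LTC Cfsg.Agent.Helper9.LTCM Cfsg.Agent.Helper9.LTCP Cfsg.Agent.Helper9.TCData

theorem rot_src : chkRotSrcP tab relWords relLabs rotSrc = true := by decide +kernel

theorem rel_0 : relVecM 480 tab 44 868854 [Int.ofNat 440, Int.ofNat 291, Int.ofNat 284, Int.ofNat 31] = true := by decide +kernel

theorem rel_1 : relVecM 480 tab 37 667447 [Int.ofNat 44, Int.ofNat 460, Int.ofNat 169, Int.ofNat 14] = true := by decide +kernel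

theorem rel_2 : relVecM 480 tab 52 993627 [Int.ofNat 102, Int.ofNat 61, Int.ofNat 245, Int.ofNat 18] = true := by decide +kernel

theorem rel_3 : relVecM 480 tab 44 287631 [Int.ofNat 227, Int.ofNat 129, Int.ofNat 201, Int.ofNat 55] = true := by decide +kernel

/-- The relation vectors. -/
def rhos : List (List ℤ) := [[Int.ofNat 440, Int.ofNat 291, Int.ofNat 284, Int.ofNat 31],
  [Int.ofNat 44, Int.ofNat 460, Int.ofNat 169, Int.ofNat 14],
  [Int.ofNat 102, Int.ofNat 61, Int.ofNat 245, Int.ofNat 18],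
  [Int.ofNat 227, Int.ofNat 129, Int.ofNat 201, Int.ofNat 55]]

/-- Every relation vector is the relation of a closed path. -/
theorem rel_all : ∀ ρ ∈ rhos, ∃ i s, s < tab.n ∧ relVecM 480 tab i s ρ = true := by
  intro ρ hρ
  simp only [rhos, List.mem_cons, List.not_mem_nil, or_false] at hρ
  rcases hρ with rfl | rfl | rfl | rfl
  · exact ⟨_, _, by decide +kernel, rel_0⟩
  · exact ⟨_, _, by decide +kernel, rel_1⟩
  · exact ⟨_, _, by decide +kernel, rel_2⟩
  · exact ⟨_, _, by decide +kernel, rel_3⟩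

end Cfsg.Agent.Helper9.TCData.TTP0
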