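import Cfsg.Agent.Lib.Helper9.TCData.TTP0.Main

set_option autoImplicit false
set_option maxRecDepth 1000000

namespace Cfsg.Agent.Helper9.TCData.TTP0
open Cfsg.Agent.Helper9.TC2 Cfsg.Agent.Helper9.LTC Cfsg.Agent.Helper9.LTCM Cfsg.Agent.Helper9.LTCP Cfsg.Agent.Helper9.TCData

theorem e2_704512 : allRange 704512 4096 (fun x => chkEntP ptab 2 x) = true := by decide +kernel

theorem e2_708608 : allRange 708608 4096 (fun x => chkEntP ptab 2 x) = true := by decide +kernel

theorem e2_712704 : allRange 712704 4096 (fun x => chkEntP ptab 2 x) = true := by decide +kernel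

theorem e2_716800 : allRange 716800 4096 (fun x => chkEntP ptab 2 x) = true := by decide +kernel

theorem e2_720896 : allRange 720896 4096 (fun x => chkEntP ptab 2 x) = true := by decide +kernel

theorem e2_724992 : allRange 724992 4096 (fun x => chkEntP ptab 2 x) = true := by decide +kernel

theorem e2_729088 : allRange 729088 4096 (fun x => chkEntP ptab 2 x) = true := by decide +kernel

theorem e2_733184 : allRange 733184 4096 (fun x => chkEntP ptab 2 x) = true := by decide +kernel

end Cfsg.Agent.Helper9.TCData.TTP0
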