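import Cfsg.Agent.Lib.Helper9.TCData.TTP0.Main

set_option autoImplicit false
set_option maxRecDepth 1000000

namespace Cfsg.Agent.Helper9.TCData.TTP0
open Cfsg.Agent.Helper9.TC2 Cfsg.Agent.Helper9.LTC Cfsg.Agent.Helper9.LTCM Cfsg.Agent.Helper9.LTCP Cfsg.Agent.Helper9.TCData

theorem e2_1196032 : allRange 1196032 4096 (fun x => chkEntP ptab 2 x) = true := by decide +kernel

theorem e2_1200128 : allRange 1200128 4096 (fun x => chkEntP ptab 2 x) = true := by decide +kernel

theorem e2_1204224 : allRange 1204224 4096 (fun x => chkEntP ptab 2 x) = true := by decide +kernel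

theorem e2_1208320 : allRange 1208320 4096 (fun x => chkEntP ptab 2 x) = true := by decide +kernel

theorem e2_1212416 : allRange 1212416 4096 (fun x => chkEntP ptab 2 x) = true := by decide +kernel

theorem e2_1216512 : allRange 1216512 4096 (fun x => chkEntP ptab 2 x) = true := by decide +kernel

theorem e2_1220608 : allRange 1220608 4096 (fun x => chkEntP ptab 2 x) = true := by decide +kernel

theorem e2_1224704 : allRange 1224704 4096 (fun x => chkEntP ptab 2 x) = true := by decide +kernel

end Cfsg.Agent.Helper9.TCData.TTP0
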