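import Cfsg.Agent.Lib.Helper9.TCData.TTP0.Main

set_option autoImplicit false
set_option maxRecDepth 1000000

namespace Cfsg.Agent.Helper9.TCData.TTP0
open Cfsg.Agent.Helper9.TC2 Cfsg.Agent.Helper9.LTC Cfsg.Agent.Helper9.LTCM Cfsg.Agent.Helper9.LTCP Cfsg.Agent.Helper9.TCData

theorem e2_1359872 : allRange 1359872 4096 (fun x => chkEntP ptab 2 x) = true := by decide +kernel

theorem e2_1363968 : allRange 1363968 4096 (fun x => chkEntP ptab 2 x) = true := by decide +kernel

theorem e2_1368064 : allRange 1368064 4096 (fun x => chkEntP ptab 2 x) = true := by decide +kernel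

theorem e2_1372160 : allRange 1372160 4096 (fun x => chkEntP ptab 2 x) = true := by decide +kernel

theorem e2_1376256 : allRange 1376256 4096 (fun x => chkEntP ptab 2 x) = true := by decide +kernel

theorem e2_1380352 : allRange 1380352 2048 (fun x => chkEntP ptab 2 x) = true := by decide +kernel

theorem e3_0 : allRange 0 4096 (fun x => chkEntP ptab 3 x) = true := by decide +kernel

theorem e3_4096 : allRange 4096 4096 (fun x => chkEntP ptab 3 x) = true := by decide +kernel

end Cfsg.Agent.Helper9.TCData.TTP0
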