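import Cfsg.Agent.Lib.Helper9.TCData.TTP0.Main

set_option autoImplicit false
set_option maxRecDepth 1000000

namespace Cfsg.Agent.Helper9.TCData.TTP0
open Cfsg.Agent.Helper9.TC2 Cfsg.Agent.Helper9.LTC Cfsg.Agent.Helper9.LTCM Cfsg.Agent.Helper9.LTCP Cfsg.Agent.Helper9.TCData

theorem e3_8192 : allRange 8192 4096 (fun x => chkEntP ptab 3 x) = true := by decide +kernel

theorem e3_12288 : allRange 12288 4096 (fun x => chkEntP ptab 3 x) = true := by decide +kernel

theorem e3_16384 : allRange 16384 4096 (fun x => chkEntP ptab 3 x) = true := by decide +kernel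

theorem e3_20480 : allRange 20480 4096 (fun x => chkEntP ptab 3 x) = true := by decide +kernel

theorem e3_24576 : allRange 24576 4096 (fun x => chkEntP ptab 3 x) = true := by decide +kernel

theorem e3_28672 : allRange 28672 4096 (fun x => chkEntP ptab 3 x) = true := by decide +kernel

theorem e3_32768 : allRange 32768 4096 (fun x => chkEntP ptab 3 x) = true := by decide +kernel

theorem e3_36864 : allRange 36864 4096 (fun x => chkEntP ptab 3 x) = true := by decide +kernel

end Cfsg.Agent.Helper9.TCData.TTP0
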