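import Cfsg.Agent.Lib.Helper9.TCData.TTP0.Main

set_option autoImplicit false
set_option maxRecDepth 1000000

namespace Cfsg.Agent.Helper9.TCData.TTP0
open Cfsg.Agent.Helper9.TC2 Cfsg.Agent.Helper9.LTC Cfsg.Agent.Helper9.LTCM Cfsg.Agent.Helper9.LTCP Cfsg.Agent.Helper9.TCData

theorem e3_598016 : allRange 598016 4096 (fun x => chkEntP ptab 3 x) = true := by decide +kernel

theorem e3_602112 : allRange 602112 4096 (fun x => chkEntP ptab 3 x) = true := by decide +kernel

theorem e3_606208 : allRange 606208 4096 (fun x => chkEntP ptab 3 x) = true := by decide +kernel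

theorem e3_610304 : allRange 610304 4096 (fun x => chkEntP ptab 3 x) = true := by decide +kernel

theorem e3_614400 : allRange 614400 4096 (fun x => chkEntP ptab 3 x) = true := by decide +kernel

theorem e3_618496 : allRange 618496 4096 (fun x => chkEntP ptab 3 x) = true := by decide +kernel

theorem e3_622592 : allRange 622592 4096 (fun x => chkEntP ptab 3 x) = true := by decide +kernel

theorem e3_626688 : allRange 626688 4096 (fun x => chkEntP ptab 3 x) = true := by decide +kernel

end Cfsg.Agent.Helper9.TCData.TTP0
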