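import Cfsg.Agent.Lib.Helper9.TCData.TTP0.Main

set_option autoImplicit false
set_option maxRecDepth 1000000

namespace Cfsg.Agent.Helper9.TCData.TTP0
open Cfsg.Agent.Helper9.TC2 Cfsg.Agent.Helper9.LTC Cfsg.Agent.Helper9.LTCM Cfsg.Agent.Helper9.LTCP Cfsg.Agent.Helper9.TCData

theorem e3_1155072 : allRange 1155072 4096 (fun x => chkEntP ptab 3 x) = true := by decide +kernel

theorem e3_1159168 : allRange 1159168 4096 (fun x => chkEntP ptab 3 x) = true := by decide +kernel

theorem e3_1163264 : allRange 1163264 4096 (fun x => chkEntP ptab 3 x) = true := by decide +kernel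

theorem e3_1167360 : allRange 1167360 4096 (fun x => chkEntP ptab 3 x) = true := by decide +kernel

theorem e3_1171456 : allRange 1171456 4096 (fun x => chkEntP ptab 3 x) = true := by decide +kernel

theorem e3_1175552 : allRange 1175552 4096 (fun x => chkEntP ptab 3 x) = true := by decide +kernel

theorem e3_1179648 : allRange 1179648 4096 (fun x => chkEntP ptab 3 x) = true := by decide +kernel

theorem e3_1183744 : allRange 1183744 4096 (fun x => chkEntP ptab 3 x) = true := by decide +kernel

end Cfsg.Agent.Helper9.TCData.TTP0
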