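import Cfsg.Agent.Lib.Helper9.TCData.TTP0.Main

set_option autoImplicit false
set_option maxRecDepth 1000000

namespace Cfsg.Agent.Helper9.TCData.TTP0
open Cfsg.Agent.Helper9.TC2 Cfsg.Agent.Helper9.LTC Cfsg.Agent.Helper9.LTCM Cfsg.Agent.Helper9.LTCP Cfsg.Agent.Helper9.TCData

theorem e3_1220608 : allRange 1220608 4096 (fun x => chkEntP ptab 3 x) = true := by decide +kernel

theorem e3_1224704 : allRange 1224704 4096 (fun x => chkEntP ptab 3 x) = true := by decide +kernel

theorem e3_1228800 : allRange 1228800 4096 (fun x => chkEntP ptab 3 x) = true := by decide +kernel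

theorem e3_1232896 : allRange 1232896 4096 (fun x => chkEntP ptab 3 x) = true := by decide +kernel

theorem e3_1236992 : allRange 1236992 4096 (fun x => chkEntP ptab 3 x) = true := by decide +kernel

theorem e3_1241088 : allRange 1241088 4096 (fun x => chkEntP ptab 3 x) = true := by decide +kernel

theorem e3_1245184 : allRange 1245184 4096 (fun x => chkEntP ptab 3 x) = true := by decide +kernel

theorem e3_1249280 : allRange 1249280 4096 (fun x => chkEntP ptab 3 x) = true := by decide +kernel

end Cfsg.Agent.Helper9.TCData.TTP0
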