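import Cfsg.Agent.Lib.Helper9.TCData.TTP0.Main

set_option autoImplicit false
set_option maxRecDepth 1000000

namespace Cfsg.Agent.Helper9.TCData.TTP0
open Cfsg.Agent.Helper9.TC2 Cfsg.Agent.Helper9.LTC Cfsg.Agent.Helper9.LTCM Cfsg.Agent.Helper9.LTCP Cfsg.Agent.Helper9.TCData

theorem e4_393216 : allRange 393216 4096 (fun x => chkEntP ptab 4 x) = true := by decide +kernel

theorem e4_397312 : allRange 397312 4096 (fun x => chkEntP ptab 4 x) = true := by decide +kernel

theorem e4_401408 : allRange 401408 4096 (fun x => chkEntP ptab 4 x) = true := by decide +kernel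

theorem e4_405504 : allRange 405504 4096 (fun x => chkEntP ptab 4 x) = true := by decide +kernel

theorem e4_409600 : allRange 409600 4096 (fun x => chkEntP ptab 4 x) = true := by decide +kernel

theorem e4_413696 : allRange 413696 4096 (fun x => chkEntP ptab 4 x) = true := by decide +kernel

theorem e4_417792 : allRange 417792 4096 (fun x => chkEntP ptab 4 x) = true := by decide +kernel

theorem e4_421888 : allRange 421888 4096 (fun x => chkEntP ptab 4 x) = true := by decide +kernel

end Cfsg.Agent.Helper9.TCData.TTP0
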