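import Cfsg.Agent.Lib.Helper9.TCData.TTP0.Main

set_option autoImplicit false
set_option maxRecDepth 1000000

namespace Cfsg.Agent.Helper9.TCData.TTP0
open Cfsg.Agent.Helper9.TC2 Cfsg.Agent.Helper9.LTC Cfsg.Agent.Helper9.LTCM Cfsg.Agent.Helper9.LTCP Cfsg.Agent.Helper9.TCData

theorem e4_491520 : allRange 491520 4096 (fun x => chkEntP ptab 4 x) = true := by decide +kernel

theorem e4_495616 : allRange 495616 4096 (fun x => chkEntP ptab 4 x) = true := by decide +kernel

theorem e4_499712 : allRange 499712 4096 (fun x => chkEntP ptab 4 x) = true := by decide +kernel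

theorem e4_503808 : allRange 503808 4096 (fun x => chkEntP ptab 4 x) = true := by decide +kernel

theorem e4_507904 : allRange 507904 4096 (fun x => chkEntP ptab 4 x) = true := by decide +kernel

theorem e4_512000 : allRange 512000 4096 (fun x => chkEntP ptab 4 x) = true := by decide +kernel

theorem e4_516096 : allRange 516096 4096 (fun x => chkEntP ptab 4 x) = true := by decide +kernel

theorem e4_520192 : allRange 520192 4096 (fun x => chkEntP ptab 4 x) = true := by decide +kernel

end Cfsg.Agent.Helper9.TCData.TTP0
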