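import Cfsg.Agent.Lib.Helper9.TCData.TTP0.Main

set_option autoImplicit false
set_option maxRecDepth 1000000

namespace Cfsg.Agent.Helper9.TCData.TTP0
open Cfsg.Agent.Helper9.TC2 Cfsg.Agent.Helper9.LTC Cfsg.Agent.Helper9.LTCM Cfsg.Agent.Helper9.LTCP Cfsg.Agent.Helper9.TCData

theorem e4_557056 : allRange 557056 4096 (fun x => chkEntP ptab 4 x) = true := by decide +kernel

theorem e4_561152 : allRange 561152 4096 (fun x => chkEntP ptab 4 x) = true := by decide +kernel

theorem e4_565248 : allRange 565248 4096 (fun x => chkEntP ptab 4 x) = true := by decide +kernel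

theorem e4_569344 : allRange 569344 4096 (fun x => chkEntP ptab 4 x) = true := by decide +kernel

theorem e4_573440 : allRange 573440 4096 (fun x => chkEntP ptab 4 x) = true := by decide +kernel

theorem e4_577536 : allRange 577536 4096 (fun x => chkEntP ptab 4 x) = true := by decide +kernel

theorem e4_581632 : allRange 581632 4096 (fun x => chkEntP ptab 4 x) = true := by decide +kernel

theorem e4_585728 : allRange 585728 4096 (fun x => chkEntP ptab 4 x) = true := by decide +kernel

end Cfsg.Agent.Helper9.TCData.TTP0
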