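import Cfsg.Agent.Lib.Helper9.TCData.TTP0.Main

set_option autoImplicit false
set_option maxRecDepth 1000000

namespace Cfsg.Agent.Helper9.TCData.TTP0
open Cfsg.Agent.Helper9.TC2 Cfsg.Agent.Helper9.LTC Cfsg.Agent.Helper9.LTCM Cfsg.Agent.Helper9.LTCP Cfsg.Agent.Helper9.TCData

theorem e4_655360 : allRange 655360 4096 (fun x => chkEntP ptab 4 x) = true := by decide +kernel

theorem e4_659456 : allRange 659456 4096 (fun x => chkEntP ptab 4 x) = true := by decide +kernel

theorem e4_663552 : allRange 663552 4096 (fun x => chkEntP ptab 4 x) = true := by decide +kernel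

theorem e4_667648 : allRange 667648 4096 (fun x => chkEntP ptab 4 x) = true := by decide +kernel

theorem e4_671744 : allRange 671744 4096 (fun x => chkEntP ptab 4 x) = true := by decide +kernel

theorem e4_675840 : allRange 675840 4096 (fun x => chkEntP ptab 4 x) = true := by decide +kernel

theorem e4_679936 : allRange 679936 4096 (fun x => chkEntP ptab 4 x) = true := by decide +kernel

theorem e4_684032 : allRange 684032 4096 (fun x => chkEntP ptab 4 x) = true := by decide +kernel

end Cfsg.Agent.Helper9.TCData.TTP0
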