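import Cfsg.Agent.Lib.Helper9.TCData.TTP0.Main

set_option autoImplicit false
set_option maxRecDepth 1000000

namespace Cfsg.Agent.Helper9.TCData.TTP0
open Cfsg.Agent.Helper9.TC2 Cfsg.Agent.Helper9.LTC Cfsg.Agent.Helper9.LTCM Cfsg.Agent.Helper9.LTCP Cfsg.Agent.Helper9.TCData

theorem e0_622592 : allRange 622592 4096 (fun x => chkEntP ptab 0 x) = true := by decide +kernel

theorem e0_626688 : allRange 626688 4096 (fun x => chkEntP ptab 0 x) = true := by decide +kernel

theorem e0_630784 : allRange 630784 4096 (fun x => chkEntP ptab 0 x) = true := by decide +kernel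

theorem e0_634880 : allRange 634880 4096 (fun x => chkEntP ptab 0 x) = true := by decide +kernel

theorem e0_638976 : allRange 638976 4096 (fun x => chkEntP ptab 0 x) = true := by decide +kernel

theorem e0_643072 : allRange 643072 4096 (fun x => chkEntP ptab 0 x) = true := by decide +kernel

theorem e0_647168 : allRange 647168 4096 (fun x => chkEntP ptab 0 x) = true := by decide +kernel

theorem e0_651264 : allRange 651264 4096 (fun x => chkEntP ptab 0 x) = true := by decide +kernel

end Cfsg.Agent.Helper9.TCData.TTP0
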