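import Cfsg.Agent.Lib.Helper9.TCData.TTP0.Main

set_option autoImplicit false
set_option maxRecDepth 1000000

namespace Cfsg.Agent.Helper9.TCData.TTP0
open Cfsg.Agent.Helper9.TC2 Cfsg.Agent.Helper9.LTC Cfsg.Agent.Helper9.LTCM Cfsg.Agent.Helper9.LTCP Cfsg.Agent.Helper9.TCData

theorem e4_884736 : allRange 884736 4096 (fun x => chkEntP ptab 4 x) = true := by decide +kernel

theorem e4_888832 : allRange 888832 4096 (fun x => chkEntP ptab 4 x) = true := by decide +kernel

theorem e4_892928 : allRange 892928 4096 (fun x => chkEntP ptab 4 x) = true := by decide +kernel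

theorem e4_897024 : allRange 897024 4096 (fun x => chkEntP ptab 4 x) = true := by decide +kernel

theorem e4_901120 : allRange 901120 4096 (fun x => chkEntP ptab 4 x) = true := by decide +kernel

theorem e4_905216 : allRange 905216 4096 (fun x => chkEntP ptab 4 x) = true := by decide +kernel

theorem e4_909312 : allRange 909312 4096 (fun x => chkEntP ptab 4 x) = true := by decide +kernel

theorem e4_913408 : allRange 913408 4096 (fun x => chkEntP ptab 4 x) = true := by decide +kernel

end Cfsg.Agent.Helper9.TCData.TTP0
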