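import Cfsg.Agent.Lib.Helper9.TCData.TTP0.Main

set_option autoImplicit false
set_option maxRecDepth 1000000

namespace Cfsg.Agent.Helper9.TCData.TTP0
open Cfsg.Agent.Helper9.TC2 Cfsg.Agent.Helper9.LTC Cfsg.Agent.Helper9.LTCM Cfsg.Agent.Helper9.LTCP Cfsg.Agent.Helper9.TCData

theorem e5_155648 : allRange 155648 4096 (fun x => chkEntP ptab 5 x) = true := by decide +kernel

theorem e5_159744 : allRange 159744 4096 (fun x => chkEntP ptab 5 x) = true := by decide +kernel

theorem e5_163840 : allRange 163840 4096 (fun x => chkEntP ptab 5 x) = true := by decide +kernel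

theorem e5_167936 : allRange 167936 4096 (fun x => chkEntP ptab 5 x) = true := by decide +kernel

theorem e5_172032 : allRange 172032 4096 (fun x => chkEntP ptab 5 x) = true := by decide +kernel

theorem e5_176128 : allRange 176128 4096 (fun x => chkEntP ptab 5 x) = true := by decide +kernel

theorem e5_180224 : allRange 180224 4096 (fun x => chkEntP ptab 5 x) = true := by decide +kernel

theorem e5_184320 : allRange 184320 4096 (fun x => chkEntP ptab 5 x) = true := by decide +kernel

end Cfsg.Agent.Helper9.TCData.TTP0
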