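import Cfsg.Agent.Lib.Helper9.TCData.TTP0.Main

set_option autoImplicit false
set_option maxRecDepth 1000000

namespace Cfsg.Agent.Helper9.TCData.TTP0
open Cfsg.Agent.Helper9.TC2 Cfsg.Agent.Helper9.LTC Cfsg.Agent.Helper9.LTCM Cfsg.Agent.Helper9.LTCP Cfsg.Agent.Helper9.TCData

theorem e5_385024 : allRange 385024 4096 (fun x => chkEntP ptab 5 x) = true := by decide +kernel

theorem e5_389120 : allRange 389120 4096 (fun x => chkEntP ptab 5 x) = true := by decide +kernel

theorem e5_393216 : allRange 393216 4096 (fun x => chkEntP ptab 5 x) = true := by decide +kernel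

theorem e5_397312 : allRange 397312 4096 (fun x => chkEntP ptab 5 x) = true := by decide +kernel

theorem e5_401408 : allRange 401408 4096 (fun x => chkEntP ptab 5 x) = true := by decide +kernel

theorem e5_405504 : allRange 405504 4096 (fun x => chkEntP ptab 5 x) = true := by decide +kernel

theorem e5_409600 : allRange 409600 4096 (fun x => chkEntP ptab 5 x) = true := by decide +kernel

theorem e5_413696 : allRange 413696 4096 (fun x => chkEntP ptab 5 x) = true := by decide +kernel

end Cfsg.Agent.Helper9.TCData.TTP0
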