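import Cfsg.Agent.Lib.Helper9.TCData.TTP0.Main

set_option autoImplicit false
set_option maxRecDepth 1000000

namespace Cfsg.Agent.Helper9.TCData.TTP0
open Cfsg.Agent.Helper9.TC2 Cfsg.Agent.Helper9.LTC Cfsg.Agent.Helper9.LTCM Cfsg.Agent.Helper9.LTCP Cfsg.Agent.Helper9.TCData

theorem e5_679936 : allRange 679936 4096 (fun x => chkEntP ptab 5 x) = true := by decide +kernel

theorem e5_684032 : allRange 684032 4096 (fun x => chkEntP ptab 5 x) = true := by decide +kernel

theorem e5_688128 : allRange 688128 4096 (fun x => chkEntP ptab 5 x) = true := by decide +kernel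

theorem e5_692224 : allRange 692224 4096 (fun x => chkEntP ptab 5 x) = true := by decide +kernel

theorem e5_696320 : allRange 696320 4096 (fun x => chkEntP ptab 5 x) = true := by decide +kernel

theorem e5_700416 : allRange 700416 4096 (fun x => chkEntP ptab 5 x) = true := by decide +kernel

theorem e5_704512 : allRange 704512 4096 (fun x => chkEntP ptab 5 x) = true := by decide +kernel

theorem e5_708608 : allRange 708608 4096 (fun x => chkEntP ptab 5 x) = true := by decide +kernel

end Cfsg.Agent.Helper9.TCData.TTP0
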