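import Cfsg.Agent.Lib.Helper9.TCData.TTP0.Main

set_option autoImplicit false
set_option maxRecDepth 1000000

namespace Cfsg.Agent.Helper9.TCData.TTP0
open Cfsg.Agent.Helper9.TC2 Cfsg.Agent.Helper9.LTC Cfsg.Agent.Helper9.LTCM Cfsg.Agent.Helper9.LTCP Cfsg.Agent.Helper9.TCData

theorem e5_1040384 : allRange 1040384 4096 (fun x => chkEntP ptab 5 x) = true := by decide +kernel

theorem e5_1044480 : allRange 1044480 4096 (fun x => chkEntP ptab 5 x) = true := by decide +kernel

theorem e5_1048576 : allRange 1048576 4096 (fun x => chkEntP ptab 5 x) = true := by decide +kernel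

theorem e5_1052672 : allRange 1052672 4096 (fun x => chkEntP ptab 5 x) = true := by decide +kernel

theorem e5_1056768 : allRange 1056768 4096 (fun x => chkEntP ptab 5 x) = true := by decide +kernel

theorem e5_1060864 : allRange 1060864 4096 (fun x => chkEntP ptab 5 x) = true := by decide +kernel

theorem e5_1064960 : allRange 1064960 4096 (fun x => chkEntP ptab 5 x) = true := by decide +kernel

theorem e5_1069056 : allRange 1069056 4096 (fun x => chkEntP ptab 5 x) = true := by decide +kernel

end Cfsg.Agent.Helper9.TCData.TTP0
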