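import Cfsg.Agent.Lib.Helper9.TCData.TTP0.Main

set_option autoImplicit false
set_option maxRecDepth 1000000

namespace Cfsg.Agent.Helper9.TCData.TTP0
open Cfsg.Agent.Helper9.TC2 Cfsg.Agent.Helper9.LTC Cfsg.Agent.Helper9.LTCM Cfsg.Agent.Helper9.LTCP Cfsg.Agent.Helper9.TCData

theorem e5_1105920 : allRange 1105920 4096 (fun x => chkEntP ptab 5 x) = true := by decide +kernel

theorem e5_1110016 : allRange 1110016 4096 (fun x => chkEntP ptab 5 x) = true := by decide +kernel

theorem e5_1114112 : allRange 1114112 4096 (fun x => chkEntP ptab 5 x) = true := by decide +kernel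

theorem e5_1118208 : allRange 1118208 4096 (fun x => chkEntP ptab 5 x) = true := by decide +kernel

theorem e5_1122304 : allRange 1122304 4096 (fun x => chkEntP ptab 5 x) = true := by decide +kernel

theorem e5_1126400 : allRange 1126400 4096 (fun x => chkEntP ptab 5 x) = true := by decide +kernel

theorem e5_1130496 : allRange 1130496 4096 (fun x => chkEntP ptab 5 x) = true := by decide +kernel

theorem e5_1134592 : allRange 1134592 4096 (fun x => chkEntP ptab 5 x) = true := by decide +kernel

end Cfsg.Agent.Helper9.TCData.TTP0
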