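import Cfsg.Agent.Lib.Helper9.TCData.TTP0.Main

set_option autoImplicit false
set_option maxRecDepth 1000000

namespace Cfsg.Agent.Helper9.TCData.TTP0
open Cfsg.Agent.Helper9.TC2 Cfsg.Agent.Helper9.LTC Cfsg.Agent.Helper9.LTCM Cfsg.Agent.Helper9.LTCP Cfsg.Agent.Helper9.TCData

theorem e5_1335296 : allRange 1335296 4096 (fun x => chkEntP ptab 5 x) = true := by decide +kernel

theorem e5_1339392 : allRange 1339392 4096 (fun x => chkEntP ptab 5 x) = true := by decide +kernel

theorem e5_1343488 : allRange 1343488 4096 (fun x => chkEntP ptab 5 x) = true := by decide +kernel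

theorem e5_1347584 : allRange 1347584 4096 (fun x => chkEntP ptab 5 x) = true := by decide +kernel

theorem e5_1351680 : allRange 1351680 4096 (fun x => chkEntP ptab 5 x) = true := by decide +kernel

theorem e5_1355776 : allRange 1355776 4096 (fun x => chkEntP ptab 5 x) = true := by decide +kernel

theorem e5_1359872 : allRange 1359872 4096 (fun x => chkEntP ptab 5 x) = true := by decide +kernel

theorem e5_1363968 : allRange 1363968 4096 (fun x => chkEntP ptab 5 x) = true := by decide +kernel

end Cfsg.Agent.Helper9.TCData.TTP0
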