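import Cfsg.Agent.Lib.Helper9.TCData.TTP0.Main

set_option autoImplicit false
set_option maxRecDepth 1000000

namespace Cfsg.Agent.Helper9.TCData.TTP0
open Cfsg.Agent.Helper9.TC2 Cfsg.Agent.Helper9.LTC Cfsg.Agent.Helper9.LTCM Cfsg.Agent.Helper9.LTCP Cfsg.Agent.Helper9.TCData

theorem e0_851968 : allRange 851968 4096 (fun x => chkEntP ptab 0 x) = true := by decide +kernel

theorem e0_856064 : allRange 856064 4096 (fun x => chkEntP ptab 0 x) = true := by decide +kernel

theorem e0_860160 : allRange 860160 4096 (fun x => chkEntP ptab 0 x) = true := by decide +kernel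

theorem e0_864256 : allRange 864256 4096 (fun x => chkEntP ptab 0 x) = true := by decide +kernel

theorem e0_868352 : allRange 868352 4096 (fun x => chkEntP ptab 0 x) = true := by decide +kernel

theorem e0_872448 : allRange 872448 4096 (fun x => chkEntP ptab 0 x) = true := by decide +kernel

theorem e0_876544 : allRange 876544 4096 (fun x => chkEntP ptab 0 x) = true := by decide +kernel

theorem e0_880640 : allRange 880640 4096 (fun x => chkEntP ptab 0 x) = true := by decide +kernel

end Cfsg.Agent.Helper9.TCData.TTP0
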