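import Cfsg.Agent.Lib.Helper9.TCData.TTP0.Main

set_option autoImplicit false
set_option maxRecDepth 1000000

namespace Cfsg.Agent.Helper9.TCData.TTP0
open Cfsg.Agent.Helper9.TC2 Cfsg.Agent.Helper9.LTC Cfsg.Agent.Helper9.LTCM Cfsg.Agent.Helper9.LTCP Cfsg.Agent.Helper9.TCData

theorem e0_1277952 : allRange 1277952 4096 (fun x => chkEntP ptab 0 x) = true := by decide +kernel

theorem e0_1282048 : allRange 1282048 4096 (fun x => chkEntP ptab 0 x) = true := by decide +kernel

theorem e0_1286144 : allRange 1286144 4096 (fun x => chkEntP ptab 0 x) = true := by decide +kernel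

theorem e0_1290240 : allRange 1290240 4096 (fun x => chkEntP ptab 0 x) = true := by decide +kernel

theorem e0_1294336 : allRange 1294336 4096 (fun x => chkEntP ptab 0 x) = true := by decide +kernel

theorem e0_1298432 : allRange 1298432 4096 (fun x => chkEntP ptab 0 x) = true := by decide +kernel

theorem e0_1302528 : allRange 1302528 4096 (fun x => chkEntP ptab 0 x) = true := by decide +kernel

theorem e0_1306624 : allRange 1306624 4096 (fun x => chkEntP ptab 0 x) = true := by decide +kernel

end Cfsg.Agent.Helper9.TCData.TTP0
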