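import Cfsg.Agent.Lib.Helper9.TCData.TTP0.Main

set_option autoImplicit false
set_option maxRecDepth 1000000

namespace Cfsg.Agent.Helper9.TCData.TTP0
open Cfsg.Agent.Helper9.TC2 Cfsg.Agent.Helper9.LTC Cfsg.Agent.Helper9.LTCM Cfsg.Agent.Helper9.LTCP Cfsg.Agent.Helper9.TCData

theorem e1_811008 : allRange 811008 4096 (fun x => chkEntP ptab 1 x) = true := by decide +kernel

theorem e1_815104 : allRange 815104 4096 (fun x => chkEntP ptab 1 x) = true := by decide +kernel

theorem e1_819200 : allRange 819200 4096 (fun x => chkEntP ptab 1 x) = true := by decide +kernel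

theorem e1_823296 : allRange 823296 4096 (fun x => chkEntP ptab 1 x) = true := by decide +kernel

theorem e1_827392 : allRange 827392 4096 (fun x => chkEntP ptab 1 x) = true := by decide +kernel

theorem e1_831488 : allRange 831488 4096 (fun x => chkEntP ptab 1 x) = true := by decide +kernel

theorem e1_835584 : allRange 835584 4096 (fun x => chkEntP ptab 1 x) = true := by decide +kernel

theorem e1_839680 : allRange 839680 4096 (fun x => chkEntP ptab 1 x) = true := by decide +kernel

end Cfsg.Agent.Helper9.TCData.TTP0
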