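import Cfsg.Agent.Lib.Helper9.TCData.TTP0.Main

set_option autoImplicit false
set_option maxRecDepth 1000000

namespace Cfsg.Agent.Helper9.TCData.TTP0
open Cfsg.Agent.Helper9.TC2 Cfsg.Agent.Helper9.LTC Cfsg.Agent.Helper9.LTCM Cfsg.Agent.Helper9.LTCP Cfsg.Agent.Helper9.TCData

theorem e1_909312 : allRange 909312 4096 (fun x => chkEntP ptab 1 x) = true := by decide +kernel

theorem e1_913408 : allRange 913408 4096 (fun x => chkEntP ptab 1 x) = true := by decide +kernel

theorem e1_917504 : allRange 917504 4096 (fun x => chkEntP ptab 1 x) = true := by decide +kernel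

theorem e1_921600 : allRange 921600 4096 (fun x => chkEntP ptab 1 x) = true := by decide +kernel

theorem e1_925696 : allRange 925696 4096 (fun x => chkEntP ptab 1 x) = true := by decide +kernel

theorem e1_929792 : allRange 929792 4096 (fun x => chkEntP ptab 1 x) = true := by decide +kernel

theorem e1_933888 : allRange 933888 4096 (fun x => chkEntP ptab 1 x) = true := by decide +kernel

theorem e1_937984 : allRange 937984 4096 (fun x => chkEntP ptab 1 x) = true := by decide +kernel

end Cfsg.Agent.Helper9.TCData.TTP0
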