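import Cfsg.Agent.Lib.Helper9.TCData.TTP0.Main

set_option autoImplicit false
set_option maxRecDepth 1000000

namespace Cfsg.Agent.Helper9.TCData.TTP0
open Cfsg.Agent.Helper9.TC2 Cfsg.Agent.Helper9.LTC Cfsg.Agent.Helper9.LTCM Cfsg.Agent.Helper9.LTCP Cfsg.Agent.Helper9.TCData

theorem e1_974848 : allRange 974848 4096 (fun x => chkEntP ptab 1 x) = true := by decide +kernel

theorem e1_978944 : allRange 978944 4096 (fun x => chkEntP ptab 1 x) = true := by decide +kernel

theorem e1_983040 : allRange 983040 4096 (fun x => chkEntP ptab 1 x) = true := by decide +kernel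

theorem e1_987136 : allRange 987136 4096 (fun x => chkEntP ptab 1 x) = true := by decide +kernel

theorem e1_991232 : allRange 991232 4096 (fun x => chkEntP ptab 1 x) = true := by decide +kernel

theorem e1_995328 : allRange 995328 4096 (fun x => chkEntP ptab 1 x) = true := by decide +kernel

theorem e1_999424 : allRange 999424 4096 (fun x => chkEntP ptab 1 x) = true := by decide +kernel

theorem e1_1003520 : allRange 1003520 4096 (fun x => chkEntP ptab 1 x) = true := by decide +kernel

end Cfsg.Agent.Helper9.TCData.TTP0
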