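import Cfsg.Agent.Lib.Helper9.TCData.TTP0.Main

set_option autoImplicit false
set_option maxRecDepth 1000000

namespace Cfsg.Agent.Helper9.TCData.TTP0
open Cfsg.Agent.Helper9.TC2 Cfsg.Agent.Helper9.LTC Cfsg.Agent.Helper9.LTCM Cfsg.Agent.Helper9.LTCP Cfsg.Agent.Helper9.TCData

theorem e1_1073152 : allRange 1073152 4096 (fun x => chkEntP ptab 1 x) = true := by decide +kernel

theorem e1_1077248 : allRange 1077248 4096 (fun x => chkEntP ptab 1 x) = true := by decide +kernel

theorem e1_1081344 : allRange 1081344 4096 (fun x => chkEntP ptab 1 x) = true := by decide +kernel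

theorem e1_1085440 : allRange 1085440 4096 (fun x => chkEntP ptab 1 x) = true := by decide +kernel

theorem e1_1089536 : allRange 1089536 4096 (fun x => chkEntP ptab 1 x) = true := by decide +kernel

theorem e1_1093632 : allRange 1093632 4096 (fun x => chkEntP ptab 1 x) = true := by decide +kernel

theorem e1_1097728 : allRange 1097728 4096 (fun x => chkEntP ptab 1 x) = true := by decide +kernel

theorem e1_1101824 : allRange 1101824 4096 (fun x => chkEntP ptab 1 x) = true := by decide +kernel

end Cfsg.Agent.Helper9.TCData.TTP0
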