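import Cfsg.Agent.Lib.Helper9.TCData.TTP0.Main

set_option autoImplicit false
set_option maxRecDepth 1000000

namespace Cfsg.Agent.Helper9.TCData.TTP0
open Cfsg.Agent.Helper9.TC2 Cfsg.Agent.Helper9.LTC Cfsg.Agent.Helper9.LTCM Cfsg.Agent.Helper9.LTCP Cfsg.Agent.Helper9.TCData

theorem e2_81920 : allRange 81920 4096 (fun x => chkEntP ptab 2 x) = true := by decide +kernel

theorem e2_86016 : allRange 86016 4096 (fun x => chkEntP ptab 2 x) = true := by decide +kernel

theorem e2_90112 : allRange 90112 4096 (fun x => chkEntP ptab 2 x) = true := by decide +kernel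

theorem e2_94208 : allRange 94208 4096 (fun x => chkEntP ptab 2 x) = true := by decide +kernel

theorem e2_98304 : allRange 98304 4096 (fun x => chkEntP ptab 2 x) = true := by decide +kernel

theorem e2_102400 : allRange 102400 4096 (fun x => chkEntP ptab 2 x) = true := by decide +kernel

theorem e2_106496 : allRange 106496 4096 (fun x => chkEntP ptab 2 x) = true := by decide +kernel

theorem e2_110592 : allRange 110592 4096 (fun x => chkEntP ptab 2 x) = true := by decide +kernel

end Cfsg.Agent.Helper9.TCData.TTP0
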