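import Cfsg.Agent.Lib.Helper9.TCData.TTP0.Main

set_option autoImplicit false
set_option maxRecDepth 1000000

namespace Cfsg.Agent.Helper9.TCData.TTP0
open Cfsg.Agent.Helper9.TC2 Cfsg.Agent.Helper9.LTC Cfsg.Agent.Helper9.LTCM Cfsg.Agent.Helper9.LTCP Cfsg.Agent.Helper9.TCData

theorem e2_114688 : allRange 114688 4096 (fun x => chkEntP ptab 2 x) = true := by decide +kernel

theorem e2_118784 : allRange 118784 4096 (fun x => chkEntP ptab 2 x) = true := by decide +kernel

theorem e2_122880 : allRange 122880 4096 (fun x => chkEntP ptab 2 x) = true := by decide +kernel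

theorem e2_126976 : allRange 126976 4096 (fun x => chkEntP ptab 2 x) = true := by decide +kernel

theorem e2_131072 : allRange 131072 4096 (fun x => chkEntP ptab 2 x) = true := by decide +kernel

theorem e2_135168 : allRange 135168 4096 (fun x => chkEntP ptab 2 x) = true := by decide +kernel

theorem e2_139264 : allRange 139264 4096 (fun x => chkEntP ptab 2 x) = true := by decide +kernel

theorem e2_143360 : allRange 143360 4096 (fun x => chkEntP ptab 2 x) = true := by decide +kernel

end Cfsg.Agent.Helper9.TCData.TTP0
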