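import Cfsg.Agent.Lib.Helper9.TCData.TTP0.S0
import Cfsg.Agent.Lib.Helper9.TCData.TTP0.S1
import Cfsg.Agent.Lib.Helper9.TCData.TTP0.S2
import Cfsg.Agent.Lib.Helper9.TCData.TTP0.S3
import Cfsg.Agent.Lib.Helper9.TCData.TTP0.S4
import Cfsg.Agent.Lib.Helper9.TCData.TTP0.S5
import Cfsg.Agent.Lib.Helper9.TCData.TTP0.S6
import Cfsg.Agent.Lib.Helper9.TCData.TTP0.S7
import Cfsg.Agent.Lib.Helper9.TCData.TTP0.S8
import Cfsg.Agent.Lib.Helper9.TCData.TTP0.S9
import Cfsg.Agent.Lib.Helper9.TCData.TTP0.S10
import Cfsg.Agent.Lib.Helper9.TCData.TTP0.S11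
import Cfsg.Agent.Lib.Helper9.TCData.TTP0.S12
import Cfsg.Agent.Lib.Helper9.TCData.TTP0.S13
import Cfsg.Agent.Lib.Helper9.TCData.TTP0.S14
import Cfsg.Agent.Lib.Helper9.TCData.TTP0.S15
import Cfsg.Agent.Lib.Helper9.TCData.TTP0.S16
import Cfsg.Agent.Lib.Helper9.TCData.TTP0.S17
import Cfsg.Agent.Lib.Helper9.TCData.TTP0.S18
import Cfsg.Agent.Lib.Helper9.TCData.TTP0.S19
import Cfsg.Agent.Lib.Helper9.TCData.TTP0.S20
import Cfsg.Agent.Lib.Helper9.TCData.TTP0.S21
import Cfsg.Agent.Lib.Helper9.TCData.TTP0.S22
import Cfsg.Agent.Lib.Helper9.TCData.TTP0.S23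
import Cfsg.Agent.Lib.Helper9.TCData.TTP0.S24
import Cfsg.Agent.Lib.Helper9.TCData.TTP0.S25
import Cfsg.Agent.Lib.Helper9.TCData.TTP0.S26
import Cfsg.Agent.Lib.Helper9.TCData.TTP0.S27
import Cfsg.Agent.Lib.Helper9.TCData.TTP0.S28
import Cfsg.Agent.Lib.Helper9.TCData.TTP0.S29
import Cfsg.Agent.Lib.Helper9.TCData.TTP0.S30
import Cfsg.Agent.Lib.Helper9.TCData.TTP0.S31
import Cfsg.Agent.Lib.Helper9.TCData.TTP0.S32
import Cfsg.Agent.Lib.Helper9.TCData.TTP0.S33
import Cfsg.Agent.Lib.Helper9.TCData.TTP0.S34
import Cfsg.Agent.Lib.Helper9.TCData.TTP0.S35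
import Cfsg.Agent.Lib.Helper9.TCData.TTP0.S36
import Cfsg.Agent.Lib.Helper9.TCData.TTP0.S37
import Cfsg.Agent.Lib.Helper9.TCData.TTP0.S38
import Cfsg.Agent.Lib.Helper9.TCData.TTP0.S39
import Cfsg.Agent.Lib.Helper9.TCData.TTP0.S40
import Cfsg.Agent.Lib.Helper9.TCData.TTP0.S41
import Cfsg.Agent.Lib.Helper9.TCData.TTP0.S42
import Cfsg.Agent.Lib.Helper9.TCData.TTP0.S43
import Cfsg.Agent.Lib.Helper9.TCData.TTP0.S44
import Cfsg.Agent.Lib.Helper9.TCData.TTP0.S45
import Cfsg.Agent.Lib.Helper9.TCData.TTP0.S46
import Cfsg.Agent.Lib.Helper9.TCData.TTP0.S47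
import Cfsg.Agent.Lib.Helper9.TCData.TTP0.S48
import Cfsg.Agent.Lib.Helper9.TCData.TTP0.S49
import Cfsg.Agent.Lib.Helper9.TCData.TTP0.S50
import Cfsg.Agent.Lib.Helper9.TCData.TTP0.S51
import Cfsg.Agent.Lib.Helper9.TCData.TTP0.S52
import Cfsg.Agent.Lib.Helper9.TCData.TTP0.S53
import Cfsg.Agent.Lib.Helper9.TCData.TTP0.S54
import Cfsg.Agent.Lib.Helper9.TCData.TTP0.S55
import Cfsg.Agent.Lib.Helper9.TCData.TTP0.S56
import Cfsg.Agent.Lib.Helper9.TCData.TTP0.S57
import Cfsg.Agent.Lib.Helper9.TCData.TTP0.S58
import Cfsg.Agent.Lib.Helper9.TCData.TTP0.S59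
import Cfsg.Agent.Lib.Helper9.TCData.TTP0.S60
import Cfsg.Agent.Lib.Helper9.TCData.TTP0.S61
import Cfsg.Agent.Lib.Helper9.TCData.TTP0.S62
import Cfsg.Agent.Lib.Helper9.TCData.TTP0.S63
import Cfsg.Agent.Lib.Helper9.TCData.TTP0.S64
import Cfsg.Agent.Lib.Helper9.TCData.TTP0.S65
import Cfsg.Agent.Lib.Helper9.TCData.TTP0.S66
import Cfsg.Agent.Lib.Helper9.TCData.TTP0.S67
import Cfsg.Agent.Lib.Helper9.TCData.TTP0.S68
import Cfsg.Agent.Lib.Helper9.TCData.TTP0.S69
import Cfsg.Agent.Lib.Helper9.TCData.TTP0.S70
import Cfsg.Agent.Lib.Helper9.TCData.TTP0.S71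
import Cfsg.Agent.Lib.Helper9.TCData.TTP0.S72
import Cfsg.Agent.Lib.Helper9.TCData.TTP0.S73
import Cfsg.Agent.Lib.Helper9.TCData.TTP0.S74
import Cfsg.Agent.Lib.Helper9.TCData.TTP0.S75
import Cfsg.Agent.Lib.Helper9.TCData.TTP0.S76
import Cfsg.Agent.Lib.Helper9.TCData.TTP0.S77
import Cfsg.Agent.Lib.Helper9.TCData.TTP0.S78
import Cfsg.Agent.Lib.Helper9.TCData.TTP0.S79
import Cfsg.Agent.Lib.Helper9.TCData.TTP0.S80
import Cfsg.Agent.Lib.Helper9.TCData.TTP0.S81
import Cfsg.Agent.Lib.Helper9.TCData.TTP0.S82
import Cfsg.Agent.Lib.Helper9.TCData.TTP0.S83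
import Cfsg.Agent.Lib.Helper9.TCData.TTP0.S84
import Cfsg.Agent.Lib.Helper9.TCData.TTP0.S85
import Cfsg.Agent.Lib.Helper9.TCData.TTP0.S86
import Cfsg.Agent.Lib.Helper9.TCData.TTP0.S87
import Cfsg.Agent.Lib.Helper9.TCData.TTP0.S88
import Cfsg.Agent.Lib.Helper9.TCData.TTP0.S89
import Cfsg.Agent.Lib.Helper9.TCData.TTP0.S90
import Cfsg.Agent.Lib.Helper9.TCData.TTP0.S91
import Cfsg.Agent.Lib.Helper9.TCData.TTP0.S92
import Cfsg.Agent.Lib.Helper9.TCData.TTP0.S93
import Cfsg.Agent.Lib.Helper9.TCData.TTP0.S94
import Cfsg.Agent.Lib.Helper9.TCData.TTP0.S95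
import Cfsg.Agent.Lib.Helper9.TCData.TTP0.S96
import Cfsg.Agent.Lib.Helper9.TCData.TTP0.S97
import Cfsg.Agent.Lib.Helper9.TCData.TTP0.S98
import Cfsg.Agent.Lib.Helper9.TCData.TTP0.S99
import Cfsg.Agent.Lib.Helper9.TCData.TTP0.S100
import Cfsg.Agent.Lib.Helper9.TCData.TTP0.S101
import Cfsg.Agent.Lib.Helper9.TCData.TTP0.S102
import Cfsg.Agent.Lib.Helper9.TCData.TTP0.S103
import Cfsg.Agent.Lib.Helper9.TCData.TTP0.S104
import Cfsg.Agent.Lib.Helper9.TCData.TTP0.S105
import Cfsg.Agent.Lib.Helper9.TCData.TTP0.S106
import Cfsg.Agent.Lib.Helper9.TCData.TTP0.S107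
import Cfsg.Agent.Lib.Helper9.TCData.TTP0.S108
import Cfsg.Agent.Lib.Helper9.TCData.TTP0.S109
import Cfsg.Agent.Lib.Helper9.TCData.TTP0.S110
import Cfsg.Agent.Lib.Helper9.TCData.TTP0.S111
import Cfsg.Agent.Lib.Helper9.TCData.TTP0.S112
import Cfsg.Agent.Lib.Helper9.TCData.TTP0.S113
import Cfsg.Agent.Lib.Helper9.TCData.TTP0.S114
import Cfsg.Agent.Lib.Helper9.TCData.TTP0.S115
import Cfsg.Agent.Lib.Helper9.TCData.TTP0.S116
import Cfsg.Agent.Lib.Helper9.TCData.TTP0.S117
import Cfsg.Agent.Lib.Helper9.TCData.TTP0.S118
import Cfsg.Agent.Lib.Helper9.TCData.TTP0.S119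
import Cfsg.Agent.Lib.Helper9.TCData.TTP0.S120
import Cfsg.Agent.Lib.Helper9.TCData.TTP0.S121
import Cfsg.Agent.Lib.Helper9.TCData.TTP0.S122
import Cfsg.Agent.Lib.Helper9.TCData.TTP0.S123
import Cfsg.Agent.Lib.Helper9.TCData.TTP0.S124
import Cfsg.Agent.Lib.Helper9.TCData.TTP0.S125
import Cfsg.Agent.Lib.Helper9.TCData.TTP0.S126
import Cfsg.Agent.Lib.Helper9.TCData.TTP0.S127
import Cfsg.Agent.Lib.Helper9.TCData.TTP0.S128
import Cfsg.Agent.Lib.Helper9.TCData.TTP0.S129
import Cfsg.Agent.Lib.Helper9.TCData.TTP0.S130
import Cfsg.Agent.Lib.Helper9.TCData.TTP0.S131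
import Cfsg.Agent.Lib.Helper9.TCData.TTP0.S132
import Cfsg.Agent.Lib.Helper9.TCData.TTP0.S133
import Cfsg.Agent.Lib.Helper9.TCData.TTP0.S134
import Cfsg.Agent.Lib.Helper9.TCData.TTP0.S135
import Cfsg.Agent.Lib.Helper9.TCData.TTP0.S136
import Cfsg.Agent.Lib.Helper9.TCData.TTP0.S137
import Cfsg.Agent.Lib.Helper9.TCData.TTP0.S138
import Cfsg.Agent.Lib.Helper9.TCData.TTP0.S139
import Cfsg.Agent.Lib.Helper9.TCData.TTP0.S140
import Cfsg.Agent.Lib.Helper9.TCData.TTP0.S141
import Cfsg.Agent.Lib.Helper9.TCData.TTP0.S142
import Cfsg.Agent.Lib.Helper9.TCData.TTP0.S143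
import Cfsg.Agent.Lib.Helper9.TCData.TTP0.S144
import Cfsg.Agent.Lib.Helper9.TCData.TTP0.S145
import Cfsg.Agent.Lib.Helper9.TCData.TTP0.S146
import Cfsg.Agent.Lib.Helper9.TCData.TTP0.S147
import Cfsg.Agent.Lib.Helper9.TCData.TTP0.S148
import Cfsg.Agent.Lib.Helper9.TCData.TTP0.S149
import Cfsg.Agent.Lib.Helper9.TCData.TTP0.S150
import Cfsg.Agent.Lib.Helper9.TCData.TTP0.S151
import Cfsg.Agent.Lib.Helper9.TCData.TTP0.S152
import Cfsg.Agent.Lib.Helper9.TCData.TTP0.S153
import Cfsg.Agent.Lib.Helper9.TCData.TTP0.S154
import Cfsg.Agent.Lib.Helper9.TCData.TTP0.S155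
import Cfsg.Agent.Lib.Helper9.TCData.TTP0.S156
import Cfsg.Agent.Lib.Helper9.TCData.TTP0.S157
import Cfsg.Agent.Lib.Helper9.TCData.TTP0.S158
import Cfsg.Agent.Lib.Helper9.TCData.TTP0.S159
import Cfsg.Agent.Lib.Helper9.TCData.TTP0.S160
import Cfsg.Agent.Lib.Helper9.TCData.TTP0.S161
import Cfsg.Agent.Lib.Helper9.TCData.TTP0.S162
import Cfsg.Agent.Lib.Helper9.TCData.TTP0.S163
import Cfsg.Agent.Lib.Helper9.TCData.TTP0.S164
import Cfsg.Agent.Lib.Helper9.TCData.TTP0.S165
import Cfsg.Agent.Lib.Helper9.TCData.TTP0.S166
import Cfsg.Agent.Lib.Helper9.TCData.TTP0.S167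
import Cfsg.Agent.Lib.Helper9.TCData.TTP0.S168
import Cfsg.Agent.Lib.Helper9.TCData.TTP0.S169
import Cfsg.Agent.Lib.Helper9.TCData.TTP0.S170
import Cfsg.Agent.Lib.Helper9.TCData.TTP0.S171
import Cfsg.Agent.Lib.Helper9.TCData.TTP0.S172
import Cfsg.Agent.Lib.Helper9.TCData.TTP0.S173
import Cfsg.Agent.Lib.Helper9.TCData.TTP0.S174
import Cfsg.Agent.Lib.Helper9.TCData.TTP0.S175
import Cfsg.Agent.Lib.Helper9.TCData.TTP0.S176
import Cfsg.Agent.Lib.Helper9.TCData.TTP0.S177
import Cfsg.Agent.Lib.Helper9.TCData.TTP0.S178
import Cfsg.Agent.Lib.Helper9.TCData.TTP0.S179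
import Cfsg.Agent.Lib.Helper9.TCData.TTP0.S180
import Cfsg.Agent.Lib.Helper9.TCData.TTP0.S181
import Cfsg.Agent.Lib.Helper9.TCData.TTP0.S182
import Cfsg.Agent.Lib.Helper9.TCData.TTP0.S183
import Cfsg.Agent.Lib.Helper9.TCData.TTP0.S184
import Cfsg.Agent.Lib.Helper9.TCData.TTP0.S185
import Cfsg.Agent.Lib.Helper9.TCData.TTP0.S186
import Cfsg.Agent.Lib.Helper9.TCData.TTP0.S187
import Cfsg.Agent.Lib.Helper9.TCData.TTP0.S188
import Cfsg.Agent.Lib.Helper9.TCData.TTP0.S189
import Cfsg.Agent.Lib.Helper9.TCData.TTP0.S190
import Cfsg.Agent.Lib.Helper9.TCData.TTP0.S191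
import Cfsg.Agent.Lib.Helper9.TCData.TTP0.S192
import Cfsg.Agent.Lib.Helper9.TCData.TTP0.S193
import Cfsg.Agent.Lib.Helper9.TCData.TTP0.S194
import Cfsg.Agent.Lib.Helper9.TCData.TTP0.S195
import Cfsg.Agent.Lib.Helper9.TCData.TTP0.S196
import Cfsg.Agent.Lib.Helper9.TCData.TTP0.S197
import Cfsg.Agent.Lib.Helper9.TCData.TTP0.S198
import Cfsg.Agent.Lib.Helper9.TCData.TTP0.S199
import Cfsg.Agent.Lib.Helper9.TCData.TTP0.S200
import Cfsg.Agent.Lib.Helper9.TCData.TTP0.S201
import Cfsg.Agent.Lib.Helper9.TCData.TTP0.S202
import Cfsg.Agent.Lib.Helper9.TCData.TTP0.S203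
import Cfsg.Agent.Lib.Helper9.TCData.TTP0.S204
import Cfsg.Agent.Lib.Helper9.TCData.TTP0.S205
import Cfsg.Agent.Lib.Helper9.TCData.TTP0.S206
import Cfsg.Agent.Lib.Helper9.TCData.TTP0.S207
import Cfsg.Agent.Lib.Helper9.TCData.TTP0.S208
import Cfsg.Agent.Lib.Helper9.TCData.TTP0.S209
import Cfsg.Agent.Lib.Helper9.TCData.TTP0.S210
import Cfsg.Agent.Lib.Helper9.TCData.TTP0.S211
import Cfsg.Agent.Lib.Helper9.TCData.TTP0.S212
import Cfsg.Agent.Lib.Helper9.TCData.TTP0.S213
import Cfsg.Agent.Lib.Helper9.TCData.TTP0.S214
import Cfsg.Agent.Lib.Helper9.TCData.TTP0.S215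
import Cfsg.Agent.Lib.Helper9.TCData.TTP0.S216
import Cfsg.Agent.Lib.Helper9.TCData.TTP0.S217
import Cfsg.Agent.Lib.Helper9.TCData.TTP0.S218
import Cfsg.Agent.Lib.Helper9.TCData.TTP0.S219
import Cfsg.Agent.Lib.Helper9.TCData.TTP0.S220
import Cfsg.Agent.Lib.Helper9.TCData.TTP0.S221
import Cfsg.Agent.Lib.Helper9.TCData.TTP0.S222
import Cfsg.Agent.Lib.Helper9.TCData.TTP0.S223
import Cfsg.Agent.Lib.Helper9.TCData.TTP0.S224
import Cfsg.Agent.Lib.Helper9.TCData.TTP0.S225
import Cfsg.Agent.Lib.Helper9.TCData.TTP0.S226
import Cfsg.Agent.Lib.Helper9.TCData.TTP0.S227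
import Cfsg.Agent.Lib.Helper9.TCData.TTP0.S228
import Cfsg.Agent.Lib.Helper9.TCData.TTP0.S229
import Cfsg.Agent.Lib.Helper9.TCData.TTP0.S230
import Cfsg.Agent.Lib.Helper9.TCData.TTP0.S231
import Cfsg.Agent.Lib.Helper9.TCData.TTP0.S232
import Cfsg.Agent.Lib.Helper9.TCData.TTP0.S233
import Cfsg.Agent.Lib.Helper9.TCData.TTP0.S234
import Cfsg.Agent.Lib.Helper9.TCData.TTP0.S235
import Cfsg.Agent.Lib.Helper9.TCData.TTP0.S236
import Cfsg.Agent.Lib.Helper9.TCData.TTP0.S237
import Cfsg.Agent.Lib.Helper9.TCData.TTP0.S238
import Cfsg.Agent.Lib.Helper9.TCData.TTP0.S239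
import Cfsg.Agent.Lib.Helper9.TCData.TTP0.S240
import Cfsg.Agent.Lib.Helper9.TCData.TTP0.S241
import Cfsg.Agent.Lib.Helper9.TCData.TTP0.S242
import Cfsg.Agent.Lib.Helper9.TCData.TTP0.S243
import Cfsg.Agent.Lib.Helper9.TCData.TTP0.S244
import Cfsg.Agent.Lib.Helper9.TCData.TTP0.S245
import Cfsg.Agent.Lib.Helper9.TCData.TTP0.S246
import Cfsg.Agent.Lib.Helper9.TCData.TTP0.S247
import Cfsg.Agent.Lib.Helper9.TCData.TTP0.S248
import Cfsg.Agent.Lib.Helper9.TCData.TTP0.S249
import Cfsg.Agent.Lib.Helper9.TCData.TTP0.S250
import Cfsg.Agent.Lib.Helper9.TCData.TTP0.S251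
import Cfsg.Agent.Lib.Helper9.TCData.TTP0.S252
import Cfsg.Agent.Lib.Helper9.TCData.TTP0.S253
import Cfsg.Agent.Lib.Helper9.TCData.TTP0.Rel

set_option autoImplicit false
set_option maxRecDepth 1000000

namespace Cfsg.Agent.Helper9.TCData.TTP0
open Cfsg.Agent.Helper9.TC2 Cfsg.Agent.Helper9.LTC Cfsg.Agent.Helper9.LTCM Cfsg.Agent.Helper9.LTCP Cfsg.Agent.Helper9.TCData

theorem hP0_0 : ∀ x < 131072, chkEntP ptab 0 x = true :=
  (ext_range (ext_range (ext_range (ext_range (ext_range (ext_range (ext_range (ext_range (ext_range (ext_range (ext_range (ext_range (ext_range (ext_range (ext_range (ext_range (ext_range (ext_range (ext_range (ext_range (ext_range (ext_range (ext_range (ext_range (ext_range (ext_range (ext_range (ext_range (ext_range (ext_range (ext_range (ext_range range_zero e0_0) e0_4096) e0_8192) e0_12288) e0_16384) e0_20480) e0_24576) e0_28672) e0_32768) e0_36864) e0_40960) e0_45056) e0_49152) e0_53248) e0_57344) e0_61440) e0_65536) e0_69632) e0_73728) e0_77824) e0_81920) e0_86016) e0_90112) e0_94208) e0_98304) e0_102400) e0_106496) e0_110592) e0_114688)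 e0_118784) e0_122880) e0_126976)

theorem hP0_1 : ∀ x < 262144, chkEntP ptab 0 x = true :=
  (ext_range (ext_range (ext_range (ext_range (ext_range (ext_range (ext_range (ext_range (ext_range (ext_range (ext_range (ext_range (ext_range (ext_range (ext_range (ext_range (ext_range (ext_range (ext_range (ext_range (ext_range (ext_range (ext_range (ext_range (ext_range (ext_range (ext_range (ext_range (ext_range (ext_range (ext_range (ext_range hP0_0 e0_131072) e0_135168) e0_139264) e0_143360) e0_147456) e0_151552) e0_155648) e0_159744) e0_163840) e0_167936) e0_172032) e0_176128) e0_180224) e0_184320) e0_188416) e0_192512) e0_196608) e0_200704) e0_204800) e0_208896) e0_212992) e0_217088) e0_221184) e0_225280) e0_229376) e0_233472) e0_237568) e0_241664) e0_245760) e0_249856) e0_253952) e0_258048)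

theorem hP0_2 : ∀ x < 393216, chkEntP ptab 0 x = true :=
  (ext_range (ext_range (ext_range (ext_range (ext_range (ext_range (ext_range (ext_range (ext_range (ext_range (ext_range (ext_range (ext_range (ext_range (ext_range (ext_range (ext_range (ext_range (ext_range (ext_range (ext_range (ext_range (ext_range (ext_range (ext_range (ext_range (ext_range (ext_range (ext_range (ext_range (ext_range (ext_range hP0_1 e0_262144) e0_266240) e0_270336) e0_274432) e0_278528) e0_282624) e0_286720) e0_290816) e0_294912) e0_299008) e0_303104) e0_307200) e0_311296) e0_315392) e0_319488) e0_323584) e0_327680) e0_331776) e0_335872) e0_339968) e0_344064) e0_348160) e0_352256) e0_356352) e0_360448) e0_364544) e0_368640) e0_372736) e0_376832) e0_380928) e0_385024) e0_389120)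

theorem hP0_3 : ∀ x < 524288, chkEntP ptab 0 x = true :=
  (ext_range (ext_range (ext_range (ext_range (ext_range (ext_range (ext_range (ext_range (ext_range (ext_range (ext_range (ext_range (ext_range (ext_range (ext_range (ext_range (ext_range (ext_range (ext_range (ext_range (ext_range (ext_range (ext_range (ext_range (ext_range (ext_range (ext_range (ext_range (ext_range (ext_range (ext_range (ext_range hP0_2 e0_393216) e0_397312) e0_401408) e0_405504) e0_409600) e0_413696) e0_417792) e0_421888) e0_425984) e0_430080) e0_434176) e0_438272) e0_442368) e0_446464) e0_450560) e0_454656) e0_458752) e0_462848) e0_466944) e0_471040) e0_475136) e0_479232) e0_483328) e0_487424) e0_491520) e0_495616) e0_499712) e0_503808) e0_507904) e0_512000) e0_516096) e0_520192)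

theorem hP0_4 : ∀ x < 655360, chkEntP ptab 0 x = true :=
  (ext_range (ext_range (ext_range (ext_range (ext_range (ext_range (ext_range (ext_range (ext_range (ext_range (ext_range (ext_range (ext_range (ext_range (ext_range (ext_range (ext_range (ext_range (ext_range (ext_range (ext_range (ext_range (ext_range (ext_range (ext_range (ext_range (ext_range (ext_range (ext_range (ext_range (ext_range (ext_range hP0_3 e0_524288) e0_528384) e0_532480) e0_536576) e0_540672) e0_544768) e0_548864) e0_552960) e0_557056) e0_561152) e0_565248) e0_569344) e0_573440) e0_577536) e0_581632) e0_585728) e0_589824) e0_593920) e0_598016) e0_602112) e0_606208) e0_610304) e0_614400) e0_618496) e0_622592) e0_626688) e0_630784) e0_634880) e0_638976) e0_643072) e0_647168) e0_651264)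

theorem hP0_5 : ∀ x < 786432, chkEntP ptab 0 x = true :=
  (ext_range (ext_range (ext_range (ext_range (ext_range (ext_range (ext_range (ext_range (ext_range (ext_range (ext_range (ext_range (ext_range (ext_range (ext_range (ext_range (ext_range (ext_range (ext_range (ext_range (ext_range (ext_range (ext_range (ext_range (ext_range (ext_range (ext_range (ext_range (ext_range (ext_range (ext_range (ext_range hP0_4 e0_655360) e0_659456) e0_663552) e0_667648) e0_671744) e0_675840) e0_679936) e0_684032) e0_688128) e0_692224) e0_696320) e0_700416) e0_704512) e0_708608) e0_712704) e0_716800) e0_720896) e0_724992) e0_729088) e0_733184) e0_737280) e0_741376) e0_745472) e0_749568) e0_753664) e0_757760) e0_761856) e0_765952) e0_770048) e0_774144) e0_778240) e0_782336)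

theorem hP0_6 : ∀ x < 917504, chkEntP ptab 0 x = true :=
  (ext_range (ext_range (ext_range (ext_range (ext_range (ext_range (ext_range (ext_range (ext_range (ext_range (ext_range (ext_range (ext_range (ext_range (ext_range (ext_range (ext_range (ext_range (ext_range (ext_range (ext_range (ext_range (ext_range (ext_range (ext_range (ext_range (ext_range (ext_range (ext_range (ext_range (ext_range (ext_range hP0_5 e0_786432) e0_790528) e0_794624) e0_798720) e0_802816) e0_806912) e0_811008) e0_815104) e0_819200) e0_823296) e0_827392) e0_831488) e0_835584) e0_839680) e0_843776) e0_847872) e0_851968) e0_856064) e0_860160) e0_864256) e0_868352) e0_872448) e0_876544) e0_880640) e0_884736) e0_888832) e0_892928) e0_897024) e0_901120) e0_905216) e0_909312) e0_913408)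

theorem hP0_7 : ∀ x < 1048576, chkEntP ptab 0 x = true :=
  (ext_range (ext_range (ext_range (ext_range (ext_range (ext_range (ext_range (ext_range (ext_range (ext_range (ext_range (ext_range (ext_range (ext_range (ext_range (ext_range (ext_range (ext_range (ext_range (ext_range (ext_range (ext_range (ext_range (ext_range (ext_range (ext_range (ext_range (ext_range (ext_range (ext_range (ext_range (ext_range hP0_6 e0_917504) e0_921600) e0_925696) e0_929792) e0_933888) e0_937984) e0_942080) e0_946176) e0_950272) e0_954368) e0_958464) e0_962560) e0_966656) e0_970752) e0_974848) e0_978944) e0_983040) e0_987136) e0_991232) e0_995328) e0_999424) e0_1003520) e0_1007616) e0_1011712) e0_1015808) e0_1019904) e0_1024000) e0_1028096) e0_1032192) e0_1036288) e0_1040384) e0_1044480)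

theorem hP0_8 : ∀ x < 1179648, chkEntP ptab 0 x = true :=
  (ext_range (ext_range (ext_range (ext_range (ext_range (ext_range (ext_range (ext_range (ext_range (ext_range (ext_range (ext_range (ext_range (ext_range (ext_range (ext_range (ext_range (ext_range (ext_range (ext_range (ext_range (ext_range (ext_range (ext_range (ext_range (ext_range (ext_range (ext_range (ext_range (ext_range (ext_range (ext_range hP0_7 e0_1048576) e0_1052672) e0_1056768) e0_1060864) e0_1064960) e0_1069056) e0_1073152) e0_1077248) e0_1081344) e0_1085440) e0_1089536) e0_1093632) e0_1097728) e0_1101824) e0_1105920) e0_1110016) e0_1114112) e0_1118208) e0_1122304) e0_1126400) e0_1130496) e0_1134592) e0_1138688) e0_1142784) e0_1146880) e0_1150976) e0_1155072) e0_1159168) e0_1163264) e0_1167360) e0_1171456) e0_1175552)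

theorem hP0_9 : ∀ x < 1310720, chkEntP ptab 0 x = true :=
  (ext_range (ext_range (ext_range (ext_range (ext_range (ext_range (ext_range (ext_range (ext_range (ext_range (ext_range (ext_range (ext_range (ext_range (ext_range (ext_range (ext_range (ext_range (ext_range (ext_range (ext_range (ext_range (ext_range (ext_range (ext_range (ext_range (ext_range (ext_range (ext_range (ext_range (ext_range (ext_range hP0_8 e0_1179648) e0_1183744) e0_1187840) e0_1191936) e0_1196032) e0_1200128) e0_1204224) e0_1208320) e0_1212416) e0_1216512) e0_1220608) e0_1224704) e0_1228800) e0_1232896) e0_1236992) e0_1241088) e0_1245184) e0_1249280) e0_1253376) e0_1257472) e0_1261568) e0_1265664) e0_1269760) e0_1273856) e0_1277952) e0_1282048) e0_1286144) e0_1290240) e0_1294336) e0_1298432) e0_1302528) e0_1306624)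

theorem hP0_10 : ∀ x < 1382400, chkEntP ptab 0 x = true :=
  (ext_range (ext_range (ext_range (ext_range (ext_range (ext_range (ext_range (ext_range (ext_range (ext_range (ext_range (ext_range (ext_range (ext_range (ext_range (ext_range (ext_range (ext_range hP0_9 e0_1310720) e0_1314816) e0_1318912) e0_1323008) e0_1327104) e0_1331200) e0_1335296) e0_1339392) e0_1343488) e0_1347584) e0_1351680) e0_1355776) e0_1359872) e0_1363968) e0_1368064) e0_1372160) e0_1376256) e0_1380352)

theorem hP0 : ∀ x < ptab.n, chkEntP ptab 0 x = true := hP0_10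

theorem hP1_0 : ∀ x < 131072, chkEntP ptab 1 x = true :=
  (ext_range (ext_range (ext_range (ext_range (ext_range (ext_range (ext_range (ext_range (ext_range (ext_range (ext_range (ext_range (ext_range (ext_range (ext_range (ext_range (ext_range (ext_range (ext_range (ext_range (ext_range (ext_range (ext_range (ext_range (ext_range (ext_range (ext_range (ext_range (ext_range (ext_range (ext_range (ext_range range_zero e1_0) e1_4096) e1_8192) e1_12288) e1_16384) e1_20480) e1_24576) e1_28672) e1_32768) e1_36864) e1_40960) e1_45056) e1_49152) e1_53248) e1_57344) e1_61440) e1_65536) e1_69632) e1_73728) e1_77824) e1_81920) e1_86016) e1_90112) e1_94208) e1_98304) e1_102400) e1_106496) e1_110592) e1_114688) e1_118784) e1_122880) e1_126976)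

theorem hP1_1 : ∀ x < 262144, chkEntP ptab 1 x = true :=
  (ext_range (ext_range (ext_range (ext_range (ext_range (ext_range (ext_range (ext_range (ext_range (ext_range (ext_range (ext_range (ext_range (ext_range (ext_range (ext_range (ext_range (ext_range (ext_range (ext_range (ext_range (ext_range (ext_range (ext_range (ext_range (ext_range (ext_range (ext_range (ext_range (ext_range (ext_range (ext_range hP1_0 e1_131072) e1_135168) e1_139264) e1_143360) e1_147456) e1_151552) e1_155648) e1_159744) e1_163840) e1_167936) e1_172032) e1_176128) e1_180224) e1_184320) e1_188416) e1_192512) e1_196608) e1_200704) e1_204800) e1_208896) e1_212992) e1_217088) e1_221184) e1_225280) e1_229376) e1_233472) e1_237568) e1_241664) e1_245760) e1_249856) e1_253952) e1_258048)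

theorem hP1_2 : ∀ x < 393216, chkEntP ptab 1 x = true :=
  (ext_range (ext_range (ext_range (ext_range (ext_range (ext_range (ext_range (ext_range (ext_range (ext_range (ext_range (ext_range (ext_range (ext_range (ext_range (ext_range (ext_range (ext_range (ext_range (ext_range (ext_range (ext_range (ext_range (ext_range (ext_range (ext_range (ext_range (ext_range (ext_range (ext_range (ext_range (ext_range hP1_1 e1_262144) e1_266240) e1_270336) e1_274432) e1_278528) e1_282624) e1_286720) e1_290816) e1_294912) e1_299008) e1_303104) e1_307200) e1_311296) e1_315392) e1_319488) e1_323584) e1_327680) e1_331776) e1_335872) e1_339968) e1_344064) e1_348160) e1_352256) e1_356352) e1_360448) e1_364544) e1_368640) e1_372736) e1_376832) e1_380928) e1_385024) e1_389120)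

theorem hP1_3 : ∀ x < 524288, chkEntP ptab 1 x = true :=
  (ext_range (ext_range (ext_range (ext_range (ext_range (ext_range (ext_range (ext_range (ext_range (ext_range (ext_range (ext_range (ext_range (ext_range (ext_range (ext_range (ext_range (ext_range (ext_range (ext_range (ext_range (ext_range (ext_range (ext_range (ext_range (ext_range (ext_range (ext_range (ext_range (ext_range (ext_range (ext_range hP1_2 e1_393216) e1_397312) e1_401408) e1_405504) e1_409600) e1_413696) e1_417792) e1_421888) e1_425984) e1_430080) e1_434176) e1_438272) e1_442368) e1_446464) e1_450560) e1_454656) e1_458752) e1_462848) e1_466944) e1_471040) e1_475136) e1_479232) e1_483328) e1_487424) e1_491520) e1_495616) e1_499712) e1_503808) e1_507904) e1_512000) e1_516096) e1_520192)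

theorem hP1_4 : ∀ x < 655360, chkEntP ptab 1 x = true :=
  (ext_range (ext_range (ext_range (ext_range (ext_range (ext_range (ext_range (ext_range (ext_range (ext_range (ext_range (ext_range (ext_range (ext_range (ext_range (ext_range (ext_range (ext_range (ext_range (ext_range (ext_range (ext_range (ext_range (ext_range (ext_range (ext_range (ext_range (ext_range (ext_range (ext_range (ext_range (ext_range hP1_3 e1_524288) e1_528384) e1_532480) e1_536576) e1_540672) e1_544768) e1_548864) e1_552960) e1_557056) e1_561152) e1_565248) e1_569344) e1_573440) e1_577536) e1_581632) e1_585728) e1_589824) e1_593920) e1_598016) e1_602112) e1_606208) e1_610304) e1_614400) e1_618496) e1_622592) e1_626688) e1_630784) e1_634880) e1_638976) e1_643072) e1_647168) e1_651264)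

theorem hP1_5 : ∀ x < 786432, chkEntP ptab 1 x = true :=
  (ext_range (ext_range (ext_range (ext_range (ext_range (ext_range (ext_range (ext_range (ext_range (ext_range (ext_range (ext_range (ext_range (ext_range (ext_range (ext_range (ext_range (ext_range (ext_range (ext_range (ext_range (ext_range (ext_range (ext_range (ext_range (ext_range (ext_range (ext_range (ext_range (ext_range (ext_range (ext_range hP1_4 e1_655360) e1_659456) e1_663552) e1_667648) e1_671744) e1_675840) e1_679936) e1_684032) e1_688128) e1_692224) e1_696320) e1_700416) e1_704512) e1_708608) e1_712704) e1_716800) e1_720896) e1_724992) e1_729088) e1_733184) e1_737280) e1_741376) e1_745472) e1_749568) e1_753664) e1_757760) e1_761856) e1_765952) e1_770048) e1_774144) e1_778240) e1_782336)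

theorem hP1_6 : ∀ x < 917504, chkEntP ptab 1 x = true :=
  (ext_range (ext_range (ext_range (ext_range (ext_range (ext_range (ext_range (ext_range (ext_range (ext_range (ext_range (ext_range (ext_range (ext_range (ext_range (ext_range (ext_range (ext_range (ext_range (ext_range (ext_range (ext_range (ext_range (ext_range (ext_range (ext_range (ext_range (ext_range (ext_range (ext_range (ext_range (ext_range hP1_5 e1_786432) e1_790528) e1_794624) e1_798720) e1_802816) e1_806912) e1_811008) e1_815104) e1_819200) e1_823296) e1_827392) e1_831488) e1_835584) e1_839680) e1_843776) e1_847872) e1_851968) e1_856064) e1_860160) e1_864256) e1_868352) e1_872448) e1_876544) e1_880640) e1_884736) e1_888832) e1_892928) e1_897024) e1_901120) e1_905216) e1_909312) e1_913408)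

theorem hP1_7 : ∀ x < 1048576, chkEntP ptab 1 x = true :=
  (ext_range (ext_range (ext_range (ext_range (ext_range (ext_range (ext_range (ext_range (ext_range (ext_range (ext_range (ext_range (ext_range (ext_range (ext_range (ext_range (ext_range (ext_range (ext_range (ext_range (ext_range (ext_range (ext_range (ext_range (ext_range (ext_range (ext_range (ext_range (ext_range (ext_range (ext_range (ext_range hP1_6 e1_917504) e1_921600) e1_925696) e1_929792) e1_933888) e1_937984) e1_942080) e1_946176) e1_950272) e1_954368) e1_958464) e1_962560) e1_966656) e1_970752) e1_974848) e1_978944) e1_983040) e1_987136) e1_991232) e1_995328) e1_999424) e1_1003520) e1_1007616) e1_1011712) e1_1015808) e1_1019904) e1_1024000) e1_1028096) e1_1032192) e1_1036288) e1_1040384) e1_1044480)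

theorem hP1_8 : ∀ x < 1179648, chkEntP ptab 1 x = true :=
  (ext_range (ext_range (ext_range (ext_range (ext_range (ext_range (ext_range (ext_range (ext_range (ext_range (ext_range (ext_range (ext_range (ext_range (ext_range (ext_range (ext_range (ext_range (ext_range (ext_range (ext_range (ext_range (ext_range (ext_range (ext_range (ext_range (ext_range (ext_range (ext_range (ext_range (ext_range (ext_range hP1_7 e1_1048576) e1_1052672) e1_1056768) e1_1060864) e1_1064960) e1_1069056) e1_1073152) e1_1077248) e1_1081344) e1_1085440) e1_1089536) e1_1093632) e1_1097728) e1_1101824) e1_1105920) e1_1110016) e1_1114112) e1_1118208) e1_1122304) e1_1126400) e1_1130496) e1_1134592) e1_1138688) e1_1142784) e1_1146880) e1_1150976) e1_1155072) e1_1159168) e1_1163264) e1_1167360) e1_1171456) e1_1175552)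

theorem hP1_9 : ∀ x < 1310720, chkEntP ptab 1 x = true :=
  (ext_range (ext_range (ext_range (ext_range (ext_range (ext_range (ext_range (ext_range (ext_range (ext_range (ext_range (ext_range (ext_range (ext_range (ext_range (ext_range (ext_range (ext_range (ext_range (ext_range (ext_range (ext_range (ext_range (ext_range (ext_range (ext_range (ext_range (ext_range (ext_range (ext_range (ext_range (ext_range hP1_8 e1_1179648) e1_1183744) e1_1187840) e1_1191936) e1_1196032) e1_1200128) e1_1204224) e1_1208320) e1_1212416) e1_1216512) e1_1220608) e1_1224704) e1_1228800) e1_1232896) e1_1236992) e1_1241088) e1_1245184) e1_1249280) e1_1253376) e1_1257472) e1_1261568) e1_1265664) e1_1269760) e1_1273856) e1_1277952) e1_1282048) e1_1286144) e1_1290240) e1_1294336) e1_1298432) e1_1302528) e1_1306624)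

theorem hP1_10 : ∀ x < 1382400, chkEntP ptab 1 x = true :=
  (ext_range (ext_range (ext_range (ext_range (ext_range (ext_range (ext_range (ext_range (ext_range (ext_range (ext_range (ext_range (ext_range (ext_range (ext_range (ext_range (ext_range (ext_range hP1_9 e1_1310720) e1_1314816) e1_1318912) e1_1323008) e1_1327104) e1_1331200) e1_1335296) e1_1339392) e1_1343488) e1_1347584) e1_1351680) e1_1355776) e1_1359872) e1_1363968) e1_1368064) e1_1372160) e1_1376256) e1_1380352)

theorem hP1 : ∀ x < ptab.n, chkEntP ptab 1 x = true := hP1_10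

theorem hP2_0 : ∀ x < 131072, chkEntP ptab 2 x = true :=
  (ext_range (ext_range (ext_range (ext_range (ext_range (ext_range (ext_range (ext_range (ext_range (ext_range (ext_range (ext_range (ext_range (ext_range (ext_range (ext_range (ext_range (ext_range (ext_range (ext_range (ext_range (ext_range (ext_range (ext_range (ext_range (ext_range (ext_range (ext_range (ext_range (ext_range (ext_range (ext_range range_zero e2_0) e2_4096) e2_8192) e2_12288) e2_16384) e2_20480) e2_24576) e2_28672) e2_32768) e2_36864) e2_40960) e2_45056) e2_49152) e2_53248) e2_57344) e2_61440) e2_65536) e2_69632) e2_73728) e2_77824) e2_81920) e2_86016) e2_90112) e2_94208) e2_98304) e2_102400) e2_106496) e2_110592) e2_114688) e2_118784) e2_122880) e2_126976)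

theorem hP2_1 : ∀ x < 262144, chkEntP ptab 2 x = true :=
  (ext_range (ext_range (ext_range (ext_range (ext_range (ext_range (ext_range (ext_range (ext_range (ext_range (ext_range (ext_range (ext_range (ext_range (ext_range (ext_range (ext_range (ext_range (ext_range (ext_range (ext_range (ext_range (ext_range (ext_range (ext_range (ext_range (ext_range (ext_range (ext_range (ext_range (ext_range (ext_range hP2_0 e2_131072) e2_135168) e2_139264) e2_143360) e2_147456) e2_151552) e2_155648) e2_159744) e2_163840) e2_167936) e2_172032) e2_176128) e2_180224) e2_184320) e2_188416) e2_192512) e2_196608) e2_200704) e2_204800) e2_208896) e2_212992) e2_217088) e2_221184) e2_225280) e2_229376) e2_233472) e2_237568) e2_241664) e2_245760) e2_249856) e2_253952) e2_258048)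

theorem hP2_2 : ∀ x < 393216, chkEntP ptab 2 x = true :=
  (ext_range (ext_range (ext_range (ext_range (ext_range (ext_range (ext_range (ext_range (ext_range (ext_range (ext_range (ext_range (ext_range (ext_range (ext_range (ext_range (ext_range (ext_range (ext_range (ext_range (ext_range (ext_range (ext_range (ext_range (ext_range (ext_range (ext_range (ext_range (ext_range (ext_range (ext_range (ext_range hP2_1 e2_262144) e2_266240) e2_270336) e2_274432) e2_278528) e2_282624) e2_286720) e2_290816) e2_294912) e2_299008) e2_303104) e2_307200) e2_311296) e2_315392) e2_319488) e2_323584) e2_327680) e2_331776) e2_335872) e2_339968) e2_344064) e2_348160) e2_352256) e2_356352) e2_360448) e2_364544) e2_368640) e2_372736) e2_376832) e2_380928) e2_385024) e2_389120)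

theorem hP2_3 : ∀ x < 524288, chkEntP ptab 2 x = true :=
  (ext_range (ext_range (ext_range (ext_range (ext_range (ext_range (ext_range (ext_range (ext_range (ext_range (ext_range (ext_range (ext_range (ext_range (ext_range (ext_range (ext_range (ext_range (ext_range (ext_range (ext_range (ext_range (ext_range (ext_range (ext_range (ext_range (ext_range (ext_range (ext_range (ext_range (ext_range (ext_range hP2_2 e2_393216) e2_397312) e2_401408) e2_405504) e2_409600) e2_413696) e2_417792) e2_421888) e2_425984) e2_430080) e2_434176) e2_438272) e2_442368) e2_446464) e2_450560) e2_454656) e2_458752) e2_462848) e2_466944) e2_471040) e2_475136) e2_479232) e2_483328) e2_487424) e2_491520) e2_495616) e2_499712) e2_503808) e2_507904) e2_512000) e2_516096) e2_520192)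

theorem hP2_4 : ∀ x < 655360, chkEntP ptab 2 x = true :=
  (ext_range (ext_range (ext_range (ext_range (ext_range (ext_range (ext_range (ext_range (ext_range (ext_range (ext_range (ext_range (ext_range (ext_range (ext_range (ext_range (ext_range (ext_range (ext_range (ext_range (ext_range (ext_range (ext_range (ext_range (ext_range (ext_range (ext_range (ext_range (ext_range (ext_range (ext_range (ext_range hP2_3 e2_524288) e2_528384) e2_532480) e2_536576) e2_540672) e2_544768) e2_548864) e2_552960) e2_557056) e2_561152) e2_565248) e2_569344) e2_573440) e2_577536) e2_581632) e2_585728) e2_589824) e2_593920) e2_598016) e2_602112) e2_606208) e2_610304) e2_614400) e2_618496) e2_622592) e2_626688) e2_630784) e2_634880) e2_638976) e2_643072) e2_647168) e2_651264)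

theorem hP2_5 : ∀ x < 786432, chkEntP ptab 2 x = true :=
  (ext_range (ext_range (ext_range (ext_range (ext_range (ext_range (ext_range (ext_range (ext_range (ext_range (ext_range (ext_range (ext_range (ext_range (ext_range (ext_range (ext_range (ext_range (ext_range (ext_range (ext_range (ext_range (ext_range (ext_range (ext_range (ext_range (ext_range (ext_range (ext_range (ext_range (ext_range (ext_range hP2_4 e2_655360) e2_659456) e2_663552) e2_667648) e2_671744) e2_675840) e2_679936) e2_684032) e2_688128) e2_692224) e2_696320) e2_700416) e2_704512) e2_708608) e2_712704) e2_716800) e2_720896) e2_724992) e2_729088) e2_733184) e2_737280) e2_741376) e2_745472) e2_749568) e2_753664) e2_757760) e2_761856) e2_765952) e2_770048) e2_774144) e2_778240) e2_782336)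

theorem hP2_6 : ∀ x < 917504, chkEntP ptab 2 x = true :=
  (ext_range (ext_range (ext_range (ext_range (ext_range (ext_range (ext_range (ext_range (ext_range (ext_range (ext_range (ext_range (ext_range (ext_range (ext_range (ext_range (ext_range (ext_range (ext_range (ext_range (ext_range (ext_range (ext_range (ext_range (ext_range (ext_range (ext_range (ext_range (ext_range (ext_range (ext_range (ext_range hP2_5 e2_786432) e2_790528) e2_794624) e2_798720) e2_802816) e2_806912) e2_811008) e2_815104) e2_819200) e2_823296) e2_827392) e2_831488) e2_835584) e2_839680) e2_843776) e2_847872) e2_851968) e2_856064) e2_860160) e2_864256) e2_868352) e2_872448) e2_876544) e2_880640) e2_884736) e2_888832) e2_892928) e2_897024) e2_901120) e2_905216) e2_909312) e2_913408)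

theorem hP2_7 : ∀ x < 1048576, chkEntP ptab 2 x = true :=
  (ext_range (ext_range (ext_range (ext_range (ext_range (ext_range (ext_range (ext_range (ext_range (ext_range (ext_range (ext_range (ext_range (ext_range (ext_range (ext_range (ext_range (ext_range (ext_range (ext_range (ext_range (ext_range (ext_range (ext_range (ext_range (ext_range (ext_range (ext_range (ext_range (ext_range (ext_range (ext_range hP2_6 e2_917504) e2_921600) e2_925696) e2_929792) e2_933888) e2_937984) e2_942080) e2_946176) e2_950272) e2_954368) e2_958464) e2_962560) e2_966656) e2_970752) e2_974848) e2_978944) e2_983040) e2_987136) e2_991232) e2_995328) e2_999424) e2_1003520) e2_1007616) e2_1011712) e2_1015808) e2_1019904) e2_1024000) e2_1028096) e2_1032192) e2_1036288) e2_1040384) e2_1044480)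

theorem hP2_8 : ∀ x < 1179648, chkEntP ptab 2 x = true :=
  (ext_range (ext_range (ext_range (ext_range (ext_range (ext_range (ext_range (ext_range (ext_range (ext_range (ext_range (ext_range (ext_range (ext_range (ext_range (ext_range (ext_range (ext_range (ext_range (ext_range (ext_range (ext_range (ext_range (ext_range (ext_range (ext_range (ext_range (ext_range (ext_range (ext_range (ext_range (ext_range hP2_7 e2_1048576) e2_1052672) e2_1056768) e2_1060864) e2_1064960) e2_1069056) e2_1073152) e2_1077248) e2_1081344) e2_1085440) e2_1089536) e2_1093632) e2_1097728) e2_1101824) e2_1105920) e2_1110016) e2_1114112) e2_1118208) e2_1122304) e2_1126400) e2_1130496) e2_1134592) e2_1138688) e2_1142784) e2_1146880) e2_1150976) e2_1155072) e2_1159168) e2_1163264) e2_1167360) e2_1171456) e2_1175552)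

theorem hP2_9 : ∀ x < 1310720, chkEntP ptab 2 x = true :=
  (ext_range (ext_range (ext_range (ext_range (ext_range (ext_range (ext_range (ext_range (ext_range (ext_range (ext_range (ext_range (ext_range (ext_range (ext_range (ext_range (ext_range (ext_range (ext_range (ext_range (ext_range (ext_range (ext_range (ext_range (ext_range (ext_range (ext_range (ext_range (ext_range (ext_range (ext_range (ext_range hP2_8 e2_1179648) e2_1183744) e2_1187840) e2_1191936) e2_1196032) e2_1200128) e2_1204224) e2_1208320) e2_1212416) e2_1216512) e2_1220608) e2_1224704) e2_1228800) e2_1232896) e2_1236992) e2_1241088) e2_1245184) e2_1249280) e2_1253376) e2_1257472) e2_1261568) e2_1265664) e2_1269760) e2_1273856) e2_1277952) e2_1282048) e2_1286144) e2_1290240) e2_1294336) e2_1298432) e2_1302528) e2_1306624)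

theorem hP2_10 : ∀ x < 1382400, chkEntP ptab 2 x = true :=
  (ext_range (ext_range (ext_range (ext_range (ext_range (ext_range (ext_range (ext_range (ext_range (ext_range (ext_range (ext_range (ext_range (ext_range (ext_range (ext_range (ext_range (ext_range hP2_9 e2_1310720) e2_1314816) e2_1318912) e2_1323008) e2_1327104) e2_1331200) e2_1335296) e2_1339392) e2_1343488) e2_1347584) e2_1351680) e2_1355776) e2_1359872) e2_1363968) e2_1368064) e2_1372160) e2_1376256) e2_1380352)

theorem hP2 : ∀ x < ptab.n, chkEntP ptab 2 x = true := hP2_10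

theorem hP3_0 : ∀ x < 131072, chkEntP ptab 3 x = true :=
  (ext_range (ext_range (ext_range (ext_range (ext_range (ext_range (ext_range (ext_range (ext_range (ext_range (ext_range (ext_range (ext_range (ext_range (ext_range (ext_range (ext_range (ext_range (ext_range (ext_range (ext_range (ext_range (ext_range (ext_range (ext_range (ext_range (ext_range (ext_range (ext_range (ext_range (ext_range (ext_range range_zero e3_0) e3_4096) e3_8192) e3_12288) e3_16384) e3_20480) e3_24576) e3_28672) e3_32768) e3_36864) e3_40960) e3_45056) e3_49152) e3_53248) e3_57344) e3_61440) e3_65536) e3_69632) e3_73728) e3_77824) e3_81920) e3_86016) e3_90112) e3_94208) e3_98304) e3_102400) e3_106496) e3_110592) e3_114688) e3_118784) e3_122880) e3_126976)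

theorem hP3_1 : ∀ x < 262144, chkEntP ptab 3 x = true :=
  (ext_range (ext_range (ext_range (ext_range (ext_range (ext_range (ext_range (ext_range (ext_range (ext_range (ext_range (ext_range (ext_range (ext_range (ext_range (ext_range (ext_range (ext_range (ext_range (ext_range (ext_range (ext_range (ext_range (ext_range (ext_range (ext_range (ext_range (ext_range (ext_range (ext_range (ext_range (ext_range hP3_0 e3_131072) e3_135168) e3_139264) e3_143360) e3_147456) e3_151552) e3_155648) e3_159744) e3_163840) e3_167936) e3_172032) e3_176128) e3_180224) e3_184320) e3_188416) e3_192512) e3_196608) e3_200704) e3_204800) e3_208896) e3_212992) e3_217088) e3_221184) e3_225280) e3_229376) e3_233472) e3_237568) e3_241664) e3_245760) e3_249856) e3_253952) e3_258048)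

theorem hP3_2 : ∀ x < 393216, chkEntP ptab 3 x = true :=
  (ext_range (ext_range (ext_range (ext_range (ext_range (ext_range (ext_range (ext_range (ext_range (ext_range (ext_range (ext_range (ext_range (ext_range (ext_range (ext_range (ext_range (ext_range (ext_range (ext_range (ext_range (ext_range (ext_range (ext_range (ext_range (ext_range (ext_range (ext_range (ext_range (ext_range (ext_range (ext_range hP3_1 e3_262144) e3_266240) e3_270336) e3_274432) e3_278528) e3_282624) e3_286720) e3_290816) e3_294912) e3_299008) e3_303104) e3_307200) e3_311296) e3_315392) e3_319488) e3_323584) e3_327680) e3_331776) e3_335872) e3_339968) e3_344064) e3_348160) e3_352256) e3_356352) e3_360448) e3_364544) e3_368640) e3_372736) e3_376832) e3_380928) e3_385024) e3_389120)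

theorem hP3_3 : ∀ x < 524288, chkEntP ptab 3 x = true :=
  (ext_range (ext_range (ext_range (ext_range (ext_range (ext_range (ext_range (ext_range (ext_range (ext_range (ext_range (ext_range (ext_range (ext_range (ext_range (ext_range (ext_range (ext_range (ext_range (ext_range (ext_range (ext_range (ext_range (ext_range (ext_range (ext_range (ext_range (ext_range (ext_range (ext_range (ext_range (ext_range hP3_2 e3_393216) e3_397312) e3_401408) e3_405504) e3_409600) e3_413696) e3_417792) e3_421888) e3_425984) e3_430080) e3_434176) e3_438272) e3_442368) e3_446464) e3_450560) e3_454656) e3_458752) e3_462848) e3_466944) e3_471040) e3_475136) e3_479232) e3_483328) e3_487424) e3_491520) e3_495616) e3_499712) e3_503808) e3_507904) e3_512000) e3_516096) e3_520192)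

theorem hP3_4 : ∀ x < 655360, chkEntP ptab 3 x = true :=
  (ext_range (ext_range (ext_range (ext_range (ext_range (ext_range (ext_range (ext_range (ext_range (ext_range (ext_range (ext_range (ext_range (ext_range (ext_range (ext_range (ext_range (ext_range (ext_range (ext_range (ext_range (ext_range (ext_range (ext_range (ext_range (ext_range (ext_range (ext_range (ext_range (ext_range (ext_range (ext_range hP3_3 e3_524288) e3_528384) e3_532480) e3_536576) e3_540672) e3_544768) e3_548864) e3_552960) e3_557056) e3_561152) e3_565248) e3_569344) e3_573440) e3_577536) e3_581632) e3_585728) e3_589824) e3_593920) e3_598016) e3_602112) e3_606208) e3_610304) e3_614400) e3_618496) e3_622592) e3_626688) e3_630784) e3_634880) e3_638976) e3_643072) e3_647168) e3_651264)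

theorem hP3_5 : ∀ x < 786432, chkEntP ptab 3 x = true :=
  (ext_range (ext_range (ext_range (ext_range (ext_range (ext_range (ext_range (ext_range (ext_range (ext_range (ext_range (ext_range (ext_range (ext_range (ext_range (ext_range (ext_range (ext_range (ext_range (ext_range (ext_range (ext_range (ext_range (ext_range (ext_range (ext_range (ext_range (ext_range (ext_range (ext_range (ext_range (ext_range hP3_4 e3_655360) e3_659456) e3_663552) e3_667648) e3_671744) e3_675840) e3_679936) e3_684032) e3_688128) e3_692224) e3_696320) e3_700416) e3_704512) e3_708608) e3_712704) e3_716800) e3_720896) e3_724992) e3_729088) e3_733184) e3_737280) e3_741376) e3_745472) e3_749568) e3_753664) e3_757760) e3_761856) e3_765952) e3_770048) e3_774144) e3_778240) e3_782336)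

theorem hP3_6 : ∀ x < 917504, chkEntP ptab 3 x = true :=
  (ext_range (ext_range (ext_range (ext_range (ext_range (ext_range (ext_range (ext_range (ext_range (ext_range (ext_range (ext_range (ext_range (ext_range (ext_range (ext_range (ext_range (ext_range (ext_range (ext_range (ext_range (ext_range (ext_range (ext_range (ext_range (ext_range (ext_range (ext_range (ext_range (ext_range (ext_range (ext_range hP3_5 e3_786432) e3_790528) e3_794624) e3_798720) e3_802816) e3_806912) e3_811008) e3_815104) e3_819200) e3_823296) e3_827392) e3_831488) e3_835584) e3_839680) e3_843776) e3_847872) e3_851968) e3_856064) e3_860160) e3_864256) e3_868352) e3_872448) e3_876544) e3_880640) e3_884736) e3_888832) e3_892928) e3_897024) e3_901120) e3_905216) e3_909312) e3_913408)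

theorem hP3_7 : ∀ x < 1048576, chkEntP ptab 3 x = true :=
  (ext_range (ext_range (ext_range (ext_range (ext_range (ext_range (ext_range (ext_range (ext_range (ext_range (ext_range (ext_range (ext_range (ext_range (ext_range (ext_range (ext_range (ext_range (ext_range (ext_range (ext_range (ext_range (ext_range (ext_range (ext_range (ext_range (ext_range (ext_range (ext_range (ext_range (ext_range (ext_range hP3_6 e3_917504) e3_921600) e3_925696) e3_929792) e3_933888) e3_937984) e3_942080) e3_946176) e3_950272) e3_954368) e3_958464) e3_962560) e3_966656) e3_970752) e3_974848) e3_978944) e3_983040) e3_987136) e3_991232) e3_995328) e3_999424) e3_1003520) e3_1007616) e3_1011712) e3_1015808) e3_1019904) e3_1024000) e3_1028096) e3_1032192) e3_1036288) e3_1040384) e3_1044480)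

theorem hP3_8 : ∀ x < 1179648, chkEntP ptab 3 x = true :=
  (ext_range (ext_range (ext_range (ext_range (ext_range (ext_range (ext_range (ext_range (ext_range (ext_range (ext_range (ext_range (ext_range (ext_range (ext_range (ext_range (ext_range (ext_range (ext_range (ext_range (ext_range (ext_range (ext_range (ext_range (ext_range (ext_range (ext_range (ext_range (ext_range (ext_range (ext_range (ext_range hP3_7 e3_1048576) e3_1052672) e3_1056768) e3_1060864) e3_1064960) e3_1069056) e3_1073152) e3_1077248) e3_1081344) e3_1085440) e3_1089536) e3_1093632) e3_1097728) e3_1101824) e3_1105920) e3_1110016) e3_1114112) e3_1118208) e3_1122304) e3_1126400) e3_1130496) e3_1134592) e3_1138688) e3_1142784) e3_1146880) e3_1150976) e3_1155072) e3_1159168) e3_1163264) e3_1167360) e3_1171456) e3_1175552)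

theorem hP3_9 : ∀ x < 1310720, chkEntP ptab 3 x = true :=
  (ext_range (ext_range (ext_range (ext_range (ext_range (ext_range (ext_range (ext_range (ext_range (ext_range (ext_range (ext_range (ext_range (ext_range (ext_range (ext_range (ext_range (ext_range (ext_range (ext_range (ext_range (ext_range (ext_range (ext_range (ext_range (ext_range (ext_range (ext_range (ext_range (ext_range (ext_range (ext_range hP3_8 e3_1179648) e3_1183744) e3_1187840) e3_1191936) e3_1196032) e3_1200128) e3_1204224) e3_1208320) e3_1212416) e3_1216512) e3_1220608) e3_1224704) e3_1228800) e3_1232896) e3_1236992) e3_1241088) e3_1245184) e3_1249280) e3_1253376) e3_1257472) e3_1261568) e3_1265664) e3_1269760) e3_1273856) e3_1277952) e3_1282048) e3_1286144) e3_1290240) e3_1294336) e3_1298432) e3_1302528) e3_1306624)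

theorem hP3_10 : ∀ x < 1382400, chkEntP ptab 3 x = true :=
  (ext_range (ext_range (ext_range (ext_range (ext_range (ext_range (ext_range (ext_range (ext_range (ext_range (ext_range (ext_range (ext_range (ext_range (ext_range (ext_range (ext_range (ext_range hP3_9 e3_1310720) e3_1314816) e3_1318912) e3_1323008) e3_1327104) e3_1331200) e3_1335296) e3_1339392) e3_1343488) e3_1347584) e3_1351680) e3_1355776) e3_1359872) e3_1363968) e3_1368064) e3_1372160) e3_1376256) e3_1380352)

theorem hP3 : ∀ x < ptab.n, chkEntP ptab 3 x = true := hP3_10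

theorem hP4_0 : ∀ x < 131072, chkEntP ptab 4 x = true :=
  (ext_range (ext_range (ext_range (ext_range (ext_range (ext_range (ext_range (ext_range (ext_range (ext_range (ext_range (ext_range (ext_range (ext_range (ext_range (ext_range (ext_range (ext_range (ext_range (ext_range (ext_range (ext_range (ext_range (ext_range (ext_range (ext_range (ext_range (ext_range (ext_range (ext_range (ext_range (ext_range range_zero e4_0) e4_4096) e4_8192) e4_12288) e4_16384) e4_20480) e4_24576) e4_28672) e4_32768) e4_36864) e4_40960) e4_45056) e4_49152) e4_53248) e4_57344) e4_61440) e4_65536) e4_69632) e4_73728) e4_77824) e4_81920) e4_86016) e4_90112) e4_94208) e4_98304) e4_102400) e4_106496) e4_110592) e4_114688) e4_118784) e4_122880) e4_126976)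

theorem hP4_1 : ∀ x < 262144, chkEntP ptab 4 x = true :=
  (ext_range (ext_range (ext_range (ext_range (ext_range (ext_range (ext_range (ext_range (ext_range (ext_range (ext_range (ext_range (ext_range (ext_range (ext_range (ext_range (ext_range (ext_range (ext_range (ext_range (ext_range (ext_range (ext_range (ext_range (ext_range (ext_range (ext_range (ext_range (ext_range (ext_range (ext_range (ext_range hP4_0 e4_131072) e4_135168) e4_139264) e4_143360) e4_147456) e4_151552) e4_155648) e4_159744) e4_163840) e4_167936) e4_172032) e4_176128) e4_180224) e4_184320) e4_188416) e4_192512) e4_196608) e4_200704) e4_204800) e4_208896) e4_212992) e4_217088) e4_221184) e4_225280) e4_229376) e4_233472) e4_237568) e4_241664) e4_245760) e4_249856) e4_253952) e4_258048)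

theorem hP4_2 : ∀ x < 393216, chkEntP ptab 4 x = true :=
  (ext_range (ext_range (ext_range (ext_range (ext_range (ext_range (ext_range (ext_range (ext_range (ext_range (ext_range (ext_range (ext_range (ext_range (ext_range (ext_range (ext_range (ext_range (ext_range (ext_range (ext_range (ext_range (ext_range (ext_range (ext_range (ext_range (ext_range (ext_range (ext_range (ext_range (ext_range (ext_range hP4_1 e4_262144) e4_266240) e4_270336) e4_274432) e4_278528) e4_282624) e4_286720) e4_290816) e4_294912) e4_299008) e4_303104) e4_307200) e4_311296) e4_315392) e4_319488) e4_323584) e4_327680) e4_331776) e4_335872) e4_339968) e4_344064) e4_348160) e4_352256) e4_356352) e4_360448) e4_364544) e4_368640) e4_372736) e4_376832) e4_380928) e4_385024) e4_389120)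

theorem hP4_3 : ∀ x < 524288, chkEntP ptab 4 x = true :=
  (ext_range (ext_range (ext_range (ext_range (ext_range (ext_range (ext_range (ext_range (ext_range (ext_range (ext_range (ext_range (ext_range (ext_range (ext_range (ext_range (ext_range (ext_range (ext_range (ext_range (ext_range (ext_range (ext_range (ext_range (ext_range (ext_range (ext_range (ext_range (ext_range (ext_range (ext_range (ext_range hP4_2 e4_393216) e4_397312) e4_401408) e4_405504) e4_409600) e4_413696) e4_417792) e4_421888) e4_425984) e4_430080) e4_434176) e4_438272) e4_442368) e4_446464) e4_450560) e4_454656) e4_458752) e4_462848) e4_466944) e4_471040) e4_475136) e4_479232) e4_483328) e4_487424) e4_491520) e4_495616) e4_499712) e4_503808) e4_507904) e4_512000) e4_516096) e4_520192)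

theorem hP4_4 : ∀ x < 655360, chkEntP ptab 4 x = true :=
  (ext_range (ext_range (ext_range (ext_range (ext_range (ext_range (ext_range (ext_range (ext_range (ext_range (ext_range (ext_range (ext_range (ext_range (ext_range (ext_range (ext_range (ext_range (ext_range (ext_range (ext_range (ext_range (ext_range (ext_range (ext_range (ext_range (ext_range (ext_range (ext_range (ext_range (ext_range (ext_range hP4_3 e4_524288) e4_528384) e4_532480) e4_536576) e4_540672) e4_544768) e4_548864) e4_552960) e4_557056) e4_561152) e4_565248) e4_569344) e4_573440) e4_577536) e4_581632) e4_585728) e4_589824) e4_593920) e4_598016) e4_602112) e4_606208) e4_610304) e4_614400) e4_618496) e4_622592) e4_626688) e4_630784) e4_634880) e4_638976) e4_643072) e4_647168) e4_651264)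

theorem hP4_5 : ∀ x < 786432, chkEntP ptab 4 x = true :=
  (ext_range (ext_range (ext_range (ext_range (ext_range (ext_range (ext_range (ext_range (ext_range (ext_range (ext_range (ext_range (ext_range (ext_range (ext_range (ext_range (ext_range (ext_range (ext_range (ext_range (ext_range (ext_range (ext_range (ext_range (ext_range (ext_range (ext_range (ext_range (ext_range (ext_range (ext_range (ext_range hP4_4 e4_655360) e4_659456) e4_663552) e4_667648) e4_671744) e4_675840) e4_679936) e4_684032) e4_688128) e4_692224) e4_696320) e4_700416) e4_704512) e4_708608) e4_712704) e4_716800) e4_720896) e4_724992) e4_729088) e4_733184) e4_737280) e4_741376) e4_745472) e4_749568) e4_753664) e4_757760) e4_761856) e4_765952) e4_770048) e4_774144) e4_778240) e4_782336)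

theorem hP4_6 : ∀ x < 917504, chkEntP ptab 4 x = true :=
  (ext_range (ext_range (ext_range (ext_range (ext_range (ext_range (ext_range (ext_range (ext_range (ext_range (ext_range (ext_range (ext_range (ext_range (ext_range (ext_range (ext_range (ext_range (ext_range (ext_range (ext_range (ext_range (ext_range (ext_range (ext_range (ext_range (ext_range (ext_range (ext_range (ext_range (ext_range (ext_range hP4_5 e4_786432) e4_790528) e4_794624) e4_798720) e4_802816) e4_806912) e4_811008) e4_815104) e4_819200) e4_823296) e4_827392) e4_831488) e4_835584) e4_839680) e4_843776) e4_847872) e4_851968) e4_856064) e4_860160) e4_864256) e4_868352) e4_872448) e4_876544) e4_880640) e4_884736) e4_888832) e4_892928) e4_897024) e4_901120) e4_905216) e4_909312) e4_913408)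

theorem hP4_7 : ∀ x < 1048576, chkEntP ptab 4 x = true :=
  (ext_range (ext_range (ext_range (ext_range (ext_range (ext_range (ext_range (ext_range (ext_range (ext_range (ext_range (ext_range (ext_range (ext_range (ext_range (ext_range (ext_range (ext_range (ext_range (ext_range (ext_range (ext_range (ext_range (ext_range (ext_range (ext_range (ext_range (ext_range (ext_range (ext_range (ext_range (ext_range hP4_6 e4_917504) e4_921600) e4_925696) e4_929792) e4_933888) e4_937984) e4_942080) e4_946176) e4_950272) e4_954368) e4_958464) e4_962560) e4_966656) e4_970752) e4_974848) e4_978944) e4_983040) e4_987136) e4_991232) e4_995328) e4_999424) e4_1003520) e4_1007616) e4_1011712) e4_1015808) e4_1019904) e4_1024000) e4_1028096) e4_1032192) e4_1036288) e4_1040384) e4_1044480)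

theorem hP4_8 : ∀ x < 1179648, chkEntP ptab 4 x = true :=
  (ext_range (ext_range (ext_range (ext_range (ext_range (ext_range (ext_range (ext_range (ext_range (ext_range (ext_range (ext_range (ext_range (ext_range (ext_range (ext_range (ext_range (ext_range (ext_range (ext_range (ext_range (ext_range (ext_range (ext_range (ext_range (ext_range (ext_range (ext_range (ext_range (ext_range (ext_range (ext_range hP4_7 e4_1048576) e4_1052672) e4_1056768) e4_1060864) e4_1064960) e4_1069056) e4_1073152) e4_1077248) e4_1081344) e4_1085440) e4_1089536) e4_1093632) e4_1097728) e4_1101824) e4_1105920) e4_1110016) e4_1114112) e4_1118208) e4_1122304) e4_1126400) e4_1130496) e4_1134592) e4_1138688) e4_1142784) e4_1146880) e4_1150976) e4_1155072) e4_1159168) e4_1163264) e4_1167360) e4_1171456) e4_1175552)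

theorem hP4_9 : ∀ x < 1310720, chkEntP ptab 4 x = true :=
  (ext_range (ext_range (ext_range (ext_range (ext_range (ext_range (ext_range (ext_range (ext_range (ext_range (ext_range (ext_range (ext_range (ext_range (ext_range (ext_range (ext_range (ext_range (ext_range (ext_range (ext_range (ext_range (ext_range (ext_range (ext_range (ext_range (ext_range (ext_range (ext_range (ext_range (ext_range (ext_range hP4_8 e4_1179648) e4_1183744) e4_1187840) e4_1191936) e4_1196032) e4_1200128) e4_1204224) e4_1208320) e4_1212416) e4_1216512) e4_1220608) e4_1224704) e4_1228800) e4_1232896) e4_1236992) e4_1241088) e4_1245184) e4_1249280) e4_1253376) e4_1257472) e4_1261568) e4_1265664) e4_1269760) e4_1273856) e4_1277952) e4_1282048) e4_1286144) e4_1290240) e4_1294336) e4_1298432) e4_1302528) e4_1306624)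

theorem hP4_10 : ∀ x < 1382400, chkEntP ptab 4 x = true :=
  (ext_range (ext_range (ext_range (ext_range (ext_range (ext_range (ext_range (ext_range (ext_range (ext_range (ext_range (ext_range (ext_range (ext_range (ext_range (ext_range (ext_range (ext_range hP4_9 e4_1310720) e4_1314816) e4_1318912) e4_1323008) e4_1327104) e4_1331200) e4_1335296) e4_1339392) e4_1343488) e4_1347584) e4_1351680) e4_1355776) e4_1359872) e4_1363968) e4_1368064) e4_1372160) e4_1376256) e4_1380352)

theorem hP4 : ∀ x < ptab.n, chkEntP ptab 4 x = true := hP4_10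

theorem hP5_0 : ∀ x < 131072, chkEntP ptab 5 x = true :=
  (ext_range (ext_range (ext_range (ext_range (ext_range (ext_range (ext_range (ext_range (ext_range (ext_range (ext_range (ext_range (ext_range (ext_range (ext_range (ext_range (ext_range (ext_range (ext_range (ext_range (ext_range (ext_range (ext_range (ext_range (ext_range (ext_range (ext_range (ext_range (ext_range (ext_range (ext_range (ext_range range_zero e5_0) e5_4096) e5_8192) e5_12288) e5_16384) e5_20480) e5_24576) e5_28672) e5_32768) e5_36864) e5_40960) e5_45056) e5_49152) e5_53248) e5_57344) e5_61440) e5_65536) e5_69632) e5_73728) e5_77824) e5_81920) e5_86016) e5_90112) e5_94208) e5_98304) e5_102400) e5_106496) e5_110592) e5_114688) e5_118784) e5_122880) e5_126976)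

theorem hP5_1 : ∀ x < 262144, chkEntP ptab 5 x = true :=
  (ext_range (ext_range (ext_range (ext_range (ext_range (ext_range (ext_range (ext_range (ext_range (ext_range (ext_range (ext_range (ext_range (ext_range (ext_range (ext_range (ext_range (ext_range (ext_range (ext_range (ext_range (ext_range (ext_range (ext_range (ext_range (ext_range (ext_range (ext_range (ext_range (ext_range (ext_range (ext_range hP5_0 e5_131072) e5_135168) e5_139264) e5_143360) e5_147456) e5_151552) e5_155648) e5_159744) e5_163840) e5_167936) e5_172032) e5_176128) e5_180224) e5_184320) e5_188416) e5_192512) e5_196608) e5_200704) e5_204800) e5_208896) e5_212992) e5_217088) e5_221184) e5_225280) e5_229376) e5_233472) e5_237568) e5_241664) e5_245760) e5_249856) e5_253952) e5_258048)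

theorem hP5_2 : ∀ x < 393216, chkEntP ptab 5 x = true :=
  (ext_range (ext_range (ext_range (ext_range (ext_range (ext_range (ext_range (ext_range (ext_range (ext_range (ext_range (ext_range (ext_range (ext_range (ext_range (ext_range (ext_range (ext_range (ext_range (ext_range (ext_range (ext_range (ext_range (ext_range (ext_range (ext_range (ext_range (ext_range (ext_range (ext_range (ext_range (ext_range hP5_1 e5_262144) e5_266240) e5_270336) e5_274432) e5_278528) e5_282624) e5_286720) e5_290816) e5_294912) e5_299008) e5_303104) e5_307200) e5_311296) e5_315392) e5_319488) e5_323584) e5_327680) e5_331776) e5_335872) e5_339968) e5_344064) e5_348160) e5_352256) e5_356352) e5_360448) e5_364544) e5_368640) e5_372736) e5_376832) e5_380928) e5_385024) e5_389120)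

theorem hP5_3 : ∀ x < 524288, chkEntP ptab 5 x = true :=
  (ext_range (ext_range (ext_range (ext_range (ext_range (ext_range (ext_range (ext_range (ext_range (ext_range (ext_range (ext_range (ext_range (ext_range (ext_range (ext_range (ext_range (ext_range (ext_range (ext_range (ext_range (ext_range (ext_range (ext_range (ext_range (ext_range (ext_range (ext_range (ext_range (ext_range (ext_range (ext_range hP5_2 e5_393216) e5_397312) e5_401408) e5_405504) e5_409600) e5_413696) e5_417792) e5_421888) e5_425984) e5_430080) e5_434176) e5_438272) e5_442368) e5_446464) e5_450560) e5_454656) e5_458752) e5_462848) e5_466944) e5_471040) e5_475136) e5_479232) e5_483328) e5_487424) e5_491520) e5_495616) e5_499712) e5_503808) e5_507904) e5_512000) e5_516096) e5_520192)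

theorem hP5_4 : ∀ x < 655360, chkEntP ptab 5 x = true :=
  (ext_range (ext_range (ext_range (ext_range (ext_range (ext_range (ext_range (ext_range (ext_range (ext_range (ext_range (ext_range (ext_range (ext_range (ext_range (ext_range (ext_range (ext_range (ext_range (ext_range (ext_range (ext_range (ext_range (ext_range (ext_range (ext_range (ext_range (ext_range (ext_range (ext_range (ext_range (ext_range hP5_3 e5_524288) e5_528384) e5_532480) e5_536576) e5_540672) e5_544768) e5_548864) e5_552960) e5_557056) e5_561152) e5_565248) e5_569344) e5_573440) e5_577536) e5_581632) e5_585728) e5_589824) e5_593920) e5_598016) e5_602112) e5_606208) e5_610304) e5_614400) e5_618496) e5_622592) e5_626688) e5_630784) e5_634880) e5_638976) e5_643072) e5_647168) e5_651264)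

theorem hP5_5 : ∀ x < 786432, chkEntP ptab 5 x = true :=
  (ext_range (ext_range (ext_range (ext_range (ext_range (ext_range (ext_range (ext_range (ext_range (ext_range (ext_range (ext_range (ext_range (ext_range (ext_range (ext_range (ext_range (ext_range (ext_range (ext_range (ext_range (ext_range (ext_range (ext_range (ext_range (ext_range (ext_range (ext_range (ext_range (ext_range (ext_range (ext_range hP5_4 e5_655360) e5_659456) e5_663552) e5_667648) e5_671744) e5_675840) e5_679936) e5_684032) e5_688128) e5_692224) e5_696320) e5_700416) e5_704512) e5_708608) e5_712704) e5_716800) e5_720896) e5_724992) e5_729088) e5_733184) e5_737280) e5_741376) e5_745472) e5_749568) e5_753664) e5_757760) e5_761856) e5_765952) e5_770048) e5_774144) e5_778240) e5_782336)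

theorem hP5_6 : ∀ x < 917504, chkEntP ptab 5 x = true :=
  (ext_range (ext_range (ext_range (ext_range (ext_range (ext_range (ext_range (ext_range (ext_range (ext_range (ext_range (ext_range (ext_range (ext_range (ext_range (ext_range (ext_range (ext_range (ext_range (ext_range (ext_range (ext_range (ext_range (ext_range (ext_range (ext_range (ext_range (ext_range (ext_range (ext_range (ext_range (ext_range hP5_5 e5_786432) e5_790528) e5_794624) e5_798720) e5_802816) e5_806912) e5_811008) e5_815104) e5_819200) e5_823296) e5_827392) e5_831488) e5_835584) e5_839680) e5_843776) e5_847872) e5_851968) e5_856064) e5_860160) e5_864256) e5_868352) e5_872448) e5_876544) e5_880640) e5_884736) e5_888832) e5_892928) e5_897024) e5_901120) e5_905216) e5_909312) e5_913408)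

theorem hP5_7 : ∀ x < 1048576, chkEntP ptab 5 x = true :=
  (ext_range (ext_range (ext_range (ext_range (ext_range (ext_range (ext_range (ext_range (ext_range (ext_range (ext_range (ext_range (ext_range (ext_range (ext_range (ext_range (ext_range (ext_range (ext_range (ext_range (ext_range (ext_range (ext_range (ext_range (ext_range (ext_range (ext_range (ext_range (ext_range (ext_range (ext_range (ext_range hP5_6 e5_917504) e5_921600) e5_925696) e5_929792) e5_933888) e5_937984) e5_942080) e5_946176) e5_950272) e5_954368) e5_958464) e5_962560) e5_966656) e5_970752) e5_974848) e5_978944) e5_983040) e5_987136) e5_991232) e5_995328) e5_999424) e5_1003520) e5_1007616) e5_1011712) e5_1015808) e5_1019904) e5_1024000) e5_1028096) e5_1032192) e5_1036288) e5_1040384) e5_1044480)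

theorem hP5_8 : ∀ x < 1179648, chkEntP ptab 5 x = true :=
  (ext_range (ext_range (ext_range (ext_range (ext_range (ext_range (ext_range (ext_range (ext_range (ext_range (ext_range (ext_range (ext_range (ext_range (ext_range (ext_range (ext_range (ext_range (ext_range (ext_range (ext_range (ext_range (ext_range (ext_range (ext_range (ext_range (ext_range (ext_range (ext_range (ext_range (ext_range (ext_range hP5_7 e5_1048576) e5_1052672) e5_1056768) e5_1060864) e5_1064960) e5_1069056) e5_1073152) e5_1077248) e5_1081344) e5_1085440) e5_1089536) e5_1093632) e5_1097728) e5_1101824) e5_1105920) e5_1110016) e5_1114112) e5_1118208) e5_1122304) e5_1126400) e5_1130496) e5_1134592) e5_1138688) e5_1142784) e5_1146880) e5_1150976) e5_1155072) e5_1159168) e5_1163264) e5_1167360) e5_1171456) e5_1175552)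

theorem hP5_9 : ∀ x < 1310720, chkEntP ptab 5 x = true :=
  (ext_range (ext_range (ext_range (ext_range (ext_range (ext_range (ext_range (ext_range (ext_range (ext_range (ext_range (ext_range (ext_range (ext_range (ext_range (ext_range (ext_range (ext_range (ext_range (ext_range (ext_range (ext_range (ext_range (ext_range (ext_range (ext_range (ext_range (ext_range (ext_range (ext_range (ext_range (ext_range hP5_8 e5_1179648) e5_1183744) e5_1187840) e5_1191936) e5_1196032) e5_1200128) e5_1204224) e5_1208320) e5_1212416) e5_1216512) e5_1220608) e5_1224704) e5_1228800) e5_1232896) e5_1236992) e5_1241088) e5_1245184) e5_1249280) e5_1253376) e5_1257472) e5_1261568) e5_1265664) e5_1269760) e5_1273856) e5_1277952) e5_1282048) e5_1286144) e5_1290240) e5_1294336) e5_1298432) e5_1302528) e5_1306624)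

theorem hP5_10 : ∀ x < 1382400, chkEntP ptab 5 x = true :=
  (ext_range (ext_range (ext_range (ext_range (ext_range (ext_range (ext_range (ext_range (ext_range (ext_range (ext_range (ext_range (ext_range (ext_range (ext_range (ext_range (ext_range (ext_range hP5_9 e5_1310720) e5_1314816) e5_1318912) e5_1323008) e5_1327104) e5_1331200) e5_1335296) e5_1339392) e5_1343488) e5_1347584) e5_1351680) e5_1355776) e5_1359872) e5_1363968) e5_1368064) e5_1372160) e5_1376256) e5_1380352)

theorem hP5 : ∀ x < ptab.n, chkEntP ptab 5 x = true := hP5_10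

theorem hP : ∀ c < ptab.k, ∀ x < ptab.n, chkEntP ptab c x = true := by
  intro c hc
  have hc' : c < 6 := hc
  interval_cases c
  · exact hP0
  · exact hP1
  · exact hP2
  · exact hP3
  · exact hP4
  · exact hP5

theorem hE : ∀ c < tab.k, ∀ x < tab.n, chkEntM 480 tab c x = true :=
  fun c hc x hx => chkEntM_of_chkEntP ptab_ok (hP c hc x hx)

theorem h0 : tab.rk 0 = 0 := rfl

end Cfsg.Agent.Helper9.TCData.TTP0
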