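import Cfsg.Agent.Lib.Helper9.TCData.TTP0.Rel

set_option autoImplicit false
set_option maxRecDepth 1000000

namespace Cfsg.Agent.Helper9.TCData.TTP0
open Cfsg.Agent.Helper9.TC2 Cfsg.Agent.Helper9.LTC Cfsg.Agent.Helper9.LTCM Cfsg.Agent.Helper9.LTCP

/-- The coefficients of the combinations of the relation vectors. -/
def combs : List (List ℤ) := [[Int.ofNat 47, Int.ofNat 229, Int.ofNat 104, Int.ofNat 431],
  [Int.ofNat 110, Int.ofNat 141, Int.ofNat 397, Int.ofNat 226],
  [Int.ofNat 86, Int.ofNat 423, Int.ofNat 354, Int.ofNat 400],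
  [Int.ofNat 377, Int.ofNat 67, Int.ofNat 287, Int.ofNat 174]]

/-- The combinations: the central generators are trivial. -/
def tgts : List (List ℤ) := [unitV 0, unitV 1, unitV 2, unitV 3]

theorem comb_ok : ∀ i < 4, veqM 480 (vcomb (combs.getD i []) rhos) (tgts.getD i []) = true := by
  decide +kernel

end Cfsg.Agent.Helper9.TCData.TTP0
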