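import Cfsg.Agent.Lib.Helper9.LTCP
import Cfsg.Agent.Lib.Helper9.TCData.TTP0.P0
import Cfsg.Agent.Lib.Helper9.TCData.TTP0.P1
import Cfsg.Agent.Lib.Helper9.TCData.TTP0.P2
import Cfsg.Agent.Lib.Helper9.TCData.TTP0.P3
import Cfsg.Agent.Lib.Helper9.TCData.TTP0.P4
import Cfsg.Agent.Lib.Helper9.TCData.TTP0.P5
import Cfsg.Agent.Lib.Helper9.TCData.TTP0.P6
import Cfsg.Agent.Lib.Helper9.TCData.TTP0.P7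
import Cfsg.Agent.Lib.Helper9.TCData.TTP0.P8
import Cfsg.Agent.Lib.Helper9.TCData.TTP0.P9
import Cfsg.Agent.Lib.Helper9.TCData.TTP0.P10
import Cfsg.Agent.Lib.Helper9.TCData.TTP0.P11
import Cfsg.Agent.Lib.Helper9.TCData.TTP0.P12
import Cfsg.Agent.Lib.Helper9.TCData.TTP0.P13
import Cfsg.Agent.Lib.Helper9.TCData.TTP0.P14
import Cfsg.Agent.Lib.Helper9.TCData.TTP0.P15
import Cfsg.Agent.Lib.Helper9.TCData.TTP0.P16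
import Cfsg.Agent.Lib.Helper9.TCData.TTP0.P17
import Cfsg.Agent.Lib.Helper9.TCData.TTP0.P18
import Cfsg.Agent.Lib.Helper9.TCData.TTP0.P19
import Cfsg.Agent.Lib.Helper9.TCData.TTP0.P20
import Cfsg.Agent.Lib.Helper9.TCData.TTP0.P21
import Cfsg.Agent.Lib.Helper9.TCData.TTP0.P22
import Cfsg.Agent.Lib.Helper9.TCData.TTP0.P23
import Cfsg.Agent.Lib.Helper9.TCData.TTP0.P24
import Cfsg.Agent.Lib.Helper9.TCData.TTP0.P25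
import Cfsg.Agent.Lib.Helper9.TCData.TTP0.P26

set_option autoImplicit false
set_option maxRecDepth 1000000

namespace Cfsg.Agent.Helper9.TCData.TTP0
open Cfsg.Agent.Helper9.TC2 Cfsg.Agent.Helper9.LTC Cfsg.Agent.Helper9.LTCM Cfsg.Agent.Helper9.LTCP Cfsg.Agent.Helper9.TCData

/-- The rotated relators without their heads, reversed. -/
noncomputable def rotBT : WT := (WT.node 26 (WT.node 13 (WT.node 6 (WT.node 3 (WT.node 1 (WT.leaf [0]) (WT.node 2 (WT.leaf [5, 2]) (WT.leaf [3, 0, 2, 0, 2, 1, 3, 1, 3, 1, 2, 1, 2, 1, 3, 1, 3, 1, 2, 1, 3, 3, 1, 3, 1, 3, 0, 2, 0, 2, 0, 3]))) (WT.node 4 (WT.leaf [2, 0, 3, 0, 2, 0, 3, 0, 2, 0, 3, 0, 2, 0, 3, 0, 2, 0, 3]) (WT.node 5 (WT.leaf [2, 0, 2, 0, 3, 0, 3, 0, 2, 0, 2, 1, 3, 1, 3, 1, 2, 1, 2, 1, 3, 1, 3, 1, 2, 1, 3, 3, 1, 3, 1, 3]) (WT.leaf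 [3, 0, 3, 0, 2, 0, 3, 0, 3, 0, 3, 0, 3, 0, 2, 0, 3, 0, 3, 0, 3, 0, 3, 0, 2, 0, 3, 0, 3, 0, 3, 0, 3, 0, 2, 0, 3, 0, 3, 0, 3, 0, 3, 0, 2, 0, 3, 0, 3, 0, 3, 0, 3, 0, 2, 0, 3, 0, 3])))) (WT.node 9 (WT.node 7 (WT.leaf [3, 0, 3, 0, 2, 0, 2, 1, 3, 1, 3, 1, 2, 1, 2, 1, 3, 1, 3, 1, 2, 1, 3, 3, 1, 3, 1, 3, 0, 2, 0, 2]) (WT.node 8 (WT.leaf [2, 0, 3, 0, 3, 0, 3, 0, 3, 0, 2, 0, 3, 0, 3, 0, 3, 0, 3, 0, 2, 0, 3, 0, 3, 0, 3, 0, 3, 0, 2, 0, 3, 0, 3, 0, 3, 0, 3, 0, 2, 0, 3, 0, 3, 0, 3, 0, 3, 0, 2, 0, 3, 0, 3, 0, 3, 0, 3]) (WT.leaf [2, 0, 2, 1, 3, 1, 3, 1, 2, 1, 2, 1, 3, 1, 3, 1, 2, 1, 3, 3, 1, 3, 1, 3, 0, 2, 0, 2, 0, 3, 0, 3]))) (WT.node 11 (WT.node 10 (WT.leaf [3, 0, 2, 0, 3, 0, 2, 0, 3, 0, 2, 0, 3, 0, 2, 0, 3, 0, 2]) (WT.leaf [3, 0, 2, 0, 3, 0, 3, 0, 3, 0, 3, 0, 2, 0, 3, 0, 3, 0, 3,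 0, 3, 0, 2, 0, 3, 0, 3, 0, 3, 0, 3, 0, 2, 0, 3, 0, 3, 0, 3, 0, 3, 0, 2, 0, 3, 0, 3, 0, 3, 0, 3, 0, 2, 0, 3, 0, 3, 0, 3])) (WT.node 12 (WT.leaf [3, 0, 3, 0, 3, 0, 2, 0, 3, 0, 3, 0, 3, 0, 3, 0, 2, 0, 3, 0, 3, 0, 3, 0, 3, 0, 2, 0, 3, 0, 3, 0, 3, 0, 3, 0, 2, 0, 3, 0, 3, 0, 3, 0, 3, 0, 2, 0, 3, 0, 3, 0, 3, 0, 3, 0, 2, 0, 3]) (WT.leaf [2, 0, 3, 0, 3, 0, 2, 0, 2, 1, 3, 1, 3, 1, 2, 1, 2, 1, 3, 1, 3, 1, 2, 1, 3, 3, 1, 3, 1, 3, 0, 2]))))) (WT.node 19 (WT.node 16 (WT.node 14 (WT.leaf [3, 0, 3, 0, 3, 0, 3, 0, 2, 0, 3, 0, 3, 0, 3, 0, 3, 0, 2, 0, 3, 0, 3, 0, 3, 0, 3, 0, 2, 0, 3, 0, 3, 0, 3, 0, 3, 0, 2, 0, 3, 0, 3, 0, 3, 0, 3, 0, 2, 0, 3, 0, 3, 0, 3, 0, 3, 0, 2]) (WT.node 15 (WT.leaf [2, 1, 3, 1, 3, 1, 2, 1, 2, 1, 3, 1, 3, 1, 2, 1, 3, 3, 1, 3, 1, 3, 0, 2, 0, 2, 0, 3, 0, 3, 0, 2]) (WT.leaf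 [3, 0, 2, 0, 2, 0, 3, 0, 3, 0, 2, 0, 2, 1, 3, 1, 3, 1, 2, 1, 2, 1, 3, 1, 3, 1, 2, 1, 3, 3, 1, 3]))) (WT.node 17 (WT.leaf [2, 1, 3, 1, 3, 1, 2, 1, 3, 3, 1, 3, 1, 3, 0, 2, 0, 2, 0, 3, 0, 3, 0, 2, 0, 2, 1, 3, 1, 3, 1, 2]) (WT.node 18 (WT.leaf [3, 1, 3, 0, 2, 0, 2, 0, 3, 0, 3, 0, 2, 0, 2, 1, 3, 1, 3, 1, 2, 1, 2, 1, 3, 1, 3, 1, 2, 1, 3, 3]) (WT.leaf [2, 1, 3, 3, 1, 3, 1, 3, 0, 2, 0, 2, 0, 3, 0, 3, 0, 2, 0, 2, 1, 3, 1, 3, 1, 2, 1, 2, 1, 3, 1, 3])))) (WT.node 22 (WT.node 20 (WT.leaf [3, 1, 3, 1, 2, 1, 3, 3, 1, 3, 1, 3, 0, 2, 0, 2, 0, 3, 0, 3, 0, 2, 0, 2, 1, 3, 1, 3, 1, 2, 1, 2]) (WT.node 21 (WT.leaf [3, 1, 2, 1, 2, 1, 3, 1, 3, 1, 2, 1, 3, 3, 1, 3, 1, 3, 0, 2, 0, 2, 0, 3, 0, 3, 0, 2, 0, 2, 1, 3]) (WT.leaf [2, 1, 2, 1, 3, 1, 3, 1, 2, 1, 3, 3, 1, 3, 1, 3, 0, 2, 0, 2, 0, 3, 0,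 3, 0, 2, 0, 2, 1, 3, 1, 3]))) (WT.node 24 (WT.node 23 (WT.leaf [3, 3, 1, 3, 1, 3, 0, 2, 0, 2, 0, 3, 0, 3, 0, 2, 0, 2, 1, 3, 1, 3, 1, 2, 1, 2, 1, 3, 1, 3, 1, 2]) (WT.leaf [3, 1, 2, 1, 3, 3, 1, 3, 1, 3, 0, 2, 0, 2, 0, 3, 0, 3, 0, 2, 0, 2, 1, 3, 1, 3, 1, 2, 1, 2, 1, 3])) (WT.node 25 (WT.leaf [3, 1, 3, 1, 2, 1, 2, 1, 3, 1, 3, 1, 2, 1, 3, 3, 1, 3, 1, 3, 0, 2, 0, 2, 0, 3, 0, 3, 0, 2, 0, 2]) (WT.leaf [0, 5])))))) (WT.node 39 (WT.node 32 (WT.node 29 (WT.node 27 (WT.leaf [2, 2]) (WT.node 28 (WT.leaf [0, 3, 0, 2, 0, 3, 0, 2, 0, 3, 0, 2, 0, 3, 0, 2, 0, 3, 0]) (WT.leaf [1, 3, 3, 1, 3, 1, 3, 0, 2, 0, 2, 0, 3, 0, 3, 0, 2, 0, 2, 1, 3, 1, 3, 1, 2, 1, 2, 1, 3, 1, 3, 1]))) (WT.node 30 (WT.leaf [1, 3, 1, 3, 1, 2, 1, 3, 3, 1, 3, 1, 3, 0, 2, 0, 2, 0, 3, 0, 3, 0, 2, 0, 2, 1, 3, 1, 3, 1, 2,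 1]) (WT.node 31 (WT.leaf [0, 3, 0, 3, 0, 3, 0, 3, 0, 2, 0, 3, 0, 3, 0, 3, 0, 3, 0, 2, 0, 3, 0, 3, 0, 3, 0, 3, 0, 2, 0, 3, 0, 3, 0, 3, 0, 3, 0, 2, 0, 3, 0, 3, 0, 3, 0, 3, 0, 2, 0, 3, 0, 3, 0, 3, 0, 3, 0]) (WT.leaf [0, 2, 0, 3, 0, 3, 0, 2, 0, 2, 1, 3, 1, 3, 1, 2, 1, 2, 1, 3, 1, 3, 1, 2, 1, 3, 3, 1, 3, 1, 3, 0])))) (WT.node 35 (WT.node 33 (WT.leaf [1, 3, 1, 3, 1, 2, 1, 2, 1, 3, 1, 3, 1, 2, 1, 3, 3, 1, 3, 1, 3, 0, 2, 0, 2, 0, 3, 0, 3, 0, 2, 0]) (WT.node 34 (WT.leaf [0, 3, 0, 3, 0, 2, 0, 2, 1, 3, 1, 3, 1, 2, 1, 2, 1, 3, 1, 3, 1, 2, 1, 3, 3, 1, 3, 1, 3, 0, 2, 0]) (WT.leaf [0, 2, 1, 3, 1, 3, 1, 2, 1, 2, 1, 3, 1, 3, 1, 2, 1, 3, 3, 1, 3, 1, 3, 0, 2, 0, 2, 0, 3, 0, 3, 0]))) (WT.node 37 (WT.node 36 (WT.leaf [1, 2, 1, 3, 1, 3, 1, 2, 1, 3, 3, 1, 3, 1, 3, 0, 2, 0, 2, 0, 3, 0, 3, 0,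 2, 0, 2, 1, 3, 1, 3, 1]) (WT.leaf [1, 3, 0, 2, 0, 2, 0, 3, 0, 3, 0, 2, 0, 2, 1, 3, 1, 3, 1, 2, 1, 2, 1, 3, 1, 3, 1, 2, 1, 3, 3, 1])) (WT.node 38 (WT.leaf [0, 2, 0, 3, 0, 2, 0, 3, 0, 2, 0, 3, 0, 2, 0, 3, 0, 2, 0]) (WT.leaf [3, 1, 3, 1, 3, 0, 2, 0, 2, 0, 3, 0, 3, 0, 2, 0, 2, 1, 3, 1, 3, 1, 2, 1, 2, 1, 3, 1, 3, 1, 2, 1]))))) (WT.node 46 (WT.node 42 (WT.node 40 (WT.leaf [1, 3, 1, 3, 0, 2, 0, 2, 0, 3, 0, 3, 0, 2, 0, 2, 1, 3, 1, 3, 1, 2, 1, 2, 1, 3, 1, 3, 1, 2, 1, 3]) (WT.node 41 (WT.leaf [1, 2, 1, 3, 3, 1, 3, 1, 3, 0, 2, 0, 2, 0, 3, 0, 3, 0, 2, 0, 2, 1, 3, 1, 3, 1, 2, 1, 2, 1, 3, 1]) (WT.leaf [0, 3, 0, 3, 0, 2, 0, 3, 0, 3, 0, 3, 0, 3, 0, 2, 0, 3, 0, 3, 0, 3, 0, 3, 0, 2, 0, 3, 0, 3, 0, 3, 0, 3, 0, 2, 0, 3, 0, 3, 0, 3, 0, 3, 0, 2, 0, 3, 0, 3, 0, 3, 0, 3, 0, 2, 0, 3, 0]))) (WT.node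 44 (WT.node 43 (WT.leaf [0, 3, 0, 3, 0, 3, 0, 2, 0, 3, 0, 3, 0, 3, 0, 3, 0, 2, 0, 3, 0, 3, 0, 3, 0, 3, 0, 2, 0, 3, 0, 3, 0, 3, 0, 3, 0, 2, 0, 3, 0, 3, 0, 3, 0, 3, 0, 2, 0, 3, 0, 3, 0, 3, 0, 3, 0, 2, 0]) (WT.leaf [0, 3, 0, 2, 0, 3, 0, 3, 0, 3, 0, 3, 0, 2, 0, 3, 0, 3, 0, 3, 0, 3, 0, 2, 0, 3, 0, 3, 0, 3, 0, 3, 0, 2, 0, 3, 0, 3, 0, 3, 0, 3, 0, 2, 0, 3, 0, 3, 0, 3, 0, 3, 0, 2, 0, 3, 0, 3, 0])) (WT.node 45 (WT.leaf [0, 2, 0, 3, 0, 3, 0, 3, 0, 3, 0, 2, 0, 3, 0, 3, 0, 3, 0, 3, 0, 2, 0, 3, 0, 3, 0, 3, 0, 3, 0, 2, 0, 3, 0, 3, 0, 3, 0, 3, 0, 2, 0, 3, 0, 3, 0, 3, 0, 3, 0, 2, 0, 3, 0, 3, 0, 3, 0]) (WT.leaf [0, 3, 0, 2, 0, 2, 1, 3, 1, 3, 1, 2, 1, 2, 1, 3, 1, 3, 1, 2, 1, 3, 3, 1, 3, 1, 3, 0, 2, 0, 2, 0])))) (WT.node 49 (WT.node 47 (WT.leaf [0, 2, 0, 2, 0, 3, 0, 3, 0, 2, 0, 2, 1, 3,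 1, 3, 1, 2, 1, 2, 1, 3, 1, 3, 1, 2, 1, 3, 3, 1, 3, 1]) (WT.node 48 (WT.leaf [1, 2, 1, 2, 1, 3, 1, 3, 1, 2, 1, 3, 3, 1, 3, 1, 3, 0, 2, 0, 2, 0, 3, 0, 3, 0, 2, 0, 2, 1, 3, 1]) (WT.leaf [1, 3, 1, 2, 1, 3, 3, 1, 3, 1, 3, 0, 2, 0, 2, 0, 3, 0, 3, 0, 2, 0, 2, 1, 3, 1, 3, 1, 2, 1, 2, 1]))) (WT.node 51 (WT.node 50 (WT.leaf [1, 3, 1, 2, 1, 2, 1, 3, 1, 3, 1, 2, 1, 3, 3, 1, 3, 1, 3, 0, 2, 0, 2, 0, 3, 0, 3, 0, 2, 0, 2, 1]) (WT.leaf [0, 2, 0, 2, 1, 3, 1, 3, 1, 2, 1, 2, 1, 3, 1, 3, 1, 2, 1, 3, 3, 1, 3, 1, 3, 0, 2, 0, 2, 0, 3, 0])) (WT.node 52 (WT.leaf [4, 4, 4, 4, 4, 4, 4, 4, 4, 4, 4, 4]) (WT.leaf [2, 0])))))))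

/-- The labels of the rotated relators, packed. -/
noncomputable def rotANT : BT := (BT.node 26 (BT.node 13 (BT.node 6 (BT.node 3 (BT.node 1 (BT.leaf 1) (BT.node 2 (BT.leaf 0) (BT.leaf 0))) (BT.node 4 (BT.leaf 4294967296) (BT.node 5 (BT.leaf 0) (BT.leaf 281474976710656)))) (BT.node 9 (BT.node 7 (BT.leaf 0) (BT.node 8 (BT.leaf 281474976710656) (BT.leaf 0))) (BT.node 11 (BT.node 10 (BT.leaf 4294967296) (BT.leaf 281474976710656)) (BT.node 12 (BT.leaf 281474976710656) (BT.leaf 0))))) (BT.node 19 (BT.node 16 (BT.node 14 (BT.leaf 281474976710656) (BT.node 15 (BT.leaf 0) (BT.leaf 0))) (BT.node 17 (BT.leaf 0) (BT.node 18 (BT.leaf 0) (BT.leaf 0)))) (BT.node 22 (BT.node 20 (BT.leaf 0) (BT.node 21 (BT.leaf 0) (BT.leaf 0))) (BT.node 24 (BT.node 23 (BT.leaf 0) (BT.leaf 0)) (BT.node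 25 (BT.leaf 0) (BT.leaf 0)))))) (BT.node 39 (BT.node 32 (BT.node 29 (BT.node 27 (BT.leaf 65536) (BT.node 28 (BT.leaf 4294967296) (BT.leaf 0))) (BT.node 30 (BT.leaf 0) (BT.node 31 (BT.leaf 281474976710656) (BT.leaf 0)))) (BT.node 35 (BT.node 33 (BT.leaf 0) (BT.node 34 (BT.leaf 0) (BT.leaf 0))) (BT.node 37 (BT.node 36 (BT.leaf 0) (BT.leaf 0)) (BT.node 38 (BT.leaf 4294967296) (BT.leaf 0))))) (BT.node 46 (BT.node 42 (BT.node 40 (BT.leaf 0) (BT.node 41 (BT.leaf 0) (BT.leaf 281474976710656))) (BT.node 44 (BT.node 43 (BT.leaf 281474976710656) (BT.leaf 281474976710656)) (BT.node 45 (BT.leaf 281474976710656) (BT.leaf 0)))) (BT.node 49 (BT.node 47 (BT.leaf 0) (BT.node 48 (BT.leaf 0) (BT.leaf 0))) (BT.node 51 (BT.node 50 (BT.leaf 0) (BT.leaf 0)) (BT.node 52 (BT.leaf 0) (BT.leaf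 0)))))))

/-- The heads of the rotated relators. -/
noncomputable def rotHT : BT := (BT.node 26 (BT.node 13 (BT.node 6 (BT.node 3 (BT.node 1 (BT.leaf 0) (BT.node 2 (BT.leaf 0) (BT.leaf 0))) (BT.node 4 (BT.leaf 0) (BT.node 5 (BT.leaf 0) (BT.leaf 0)))) (BT.node 9 (BT.node 7 (BT.leaf 0) (BT.node 8 (BT.leaf 0) (BT.leaf 0))) (BT.node 11 (BT.node 10 (BT.leaf 0) (BT.leaf 0)) (BT.node 12 (BT.leaf 0) (BT.leaf 0))))) (BT.node 19 (BT.node 16 (BT.node 14 (BT.leaf 0) (BT.node 15 (BT.leaf 0) (BT.leaf 1))) (BT.node 17 (BT.leaf 1) (BT.node 18 (BT.leaf 1) (BT.leaf 1)))) (BT.node 22 (BT.node 20 (BT.leaf 1) (BT.node 21 (BT.leaf 1) (BT.leaf 1))) (BT.node 24 (BT.node 23 (BT.leaf 1) (BT.leaf 1)) (BT.node 25 (BT.leaf 1) (BT.leaf 2)))))) (BT.node 39 (BT.node 32 (BT.node 29 (BT.node 27 (BT.leaf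 2) (BT.node 28 (BT.leaf 2) (BT.leaf 2))) (BT.node 30 (BT.leaf 2) (BT.node 31 (BT.leaf 2) (BT.leaf 2)))) (BT.node 35 (BT.node 33 (BT.leaf 2) (BT.node 34 (BT.leaf 2) (BT.leaf 2))) (BT.node 37 (BT.node 36 (BT.leaf 2) (BT.leaf 3)) (BT.node 38 (BT.leaf 3) (BT.leaf 3))))) (BT.node 46 (BT.node 42 (BT.node 40 (BT.leaf 3) (BT.node 41 (BT.leaf 3) (BT.leaf 3))) (BT.node 44 (BT.node 43 (BT.leaf 3) (BT.leaf 3)) (BT.node 45 (BT.leaf 3) (BT.leaf 3)))) (BT.node 49 (BT.node 47 (BT.leaf 3) (BT.node 48 (BT.leaf 3) (BT.leaf 3))) (BT.node 51 (BT.node 50 (BT.leaf 3) (BT.leaf 3)) (BT.node 52 (BT.leaf 4) (BT.leaf 5)))))))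

/-- The sources of the rotated relators: relator and rotation. -/
def rotSrc : List (ℕ × ℕ) := [(3, 1), (1, 1), (2, 26), (5, 19), (2, 32), (6, 3), (2, 28), (6, 59), (2, 24), (5, 1), (6, 1), (6, 5), (2, 30), (6, 7), (2, 22), (2, 1), (2, 14), (2, 3), (2, 8), (2, 12), (2, 18), (2, 16), (2, 6), (2, 10), (2, 20), (1, 2), (4, 1), (5, 2), (2, 7), (2, 13), (6, 8), (2, 31), (2, 21), (2, 29), (2, 23), (2, 15), (2, 2), (5, 0), (2, 5), (2, 4), (2, 9), (6, 44), (6, 6), (6, 32), (6, 0), (2, 27), (2, 0), (2, 17), (2, 11), (2, 19), (2, 25), (0, 12), (1, 0)]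

/-- The relators, as words of columns. -/
def relWords : List (List ℕ) := [[4, 4, 4, 4, 4, 4, 4, 4, 4, 4, 4, 4, 4], [5, 0, 2], [3, 1, 3, 1, 3, 3, 1, 2, 1, 3, 1, 3, 1, 2, 1, 2, 1, 3, 1, 3, 1, 2, 0, 2, 0, 3, 0, 3, 0, 2, 0, 2, 0], [0, 0], [2, 2, 2], [3, 0, 2, 0, 3, 0, 2, 0, 3, 0, 2, 0, 3, 0, 2, 0, 3, 0, 2, 0], [3, 0, 3, 0, 3, 0, 3, 0, 2, 0, 3, 0, 3, 0, 3, 0, 3, 0, 2, 0, 3, 0, 3, 0, 3, 0, 3, 0, 2, 0, 3, 0, 3, 0, 3, 0, 3, 0, 2, 0, 3, 0, 3, 0, 3, 0, 3, 0, 2, 0, 3, 0, 3, 0, 3, 0, 3, 0, 2, 0]]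

/-- The labels of the relators. -/
def relLabs : List (List ℤ) := [[], [], [], [Int.ofNat 1], [Int.ofNat 0, Int.ofNat 1], [Int.ofNat 0, Int.ofNat 0, Int.ofNat 1], [Int.ofNat 0, Int.ofNat 0, Int.ofNat 0, Int.ofNat 1]]

/-- The packed table. -/
noncomputable def ptab : PTab where
  k := 6
  n := 1382400
  d := 4
  Tmax := 16588803
  w := 16
  B := 65536
  G := 0x8000800080008000
  G2 := 0xffc0ffc0ffc0ffc0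
  t2 := 10
  q := 480
  Q := 0x1e001e001e001e0
  tau := fun c i => bget2 (BT.node 12288 (BT.node 5446 (BT.node 2025 (BT.node 1012 (BT.node 506 tauT_0 tauT_1) (BT.node 1518 tauT_2 tauT_3)) (BT.node 4433 (BT.node 2531 tauT_4 tauT_5) (BT.node 4939 tauT_6 tauT_7))) (BT.node 8867 (BT.node 6458 (BT.node 5952 tauT_8 tauT_9) (BT.node 8360 tauT_10 tauT_11)) (BT.node 9879 (BT.node 9373 tauT_12 tauT_13) (BT.node 10385 tauT_14 tauT_15)))) (BT.node 17734 (BT.node 14313 (BT.node 13300 (BT.node 12794 tauT_16 tauT_17) (BT.node 13806 tauT_18 tauT_19)) (BT.node 16721 (BT.node 14819 tauT_20 tauT_21) (BT.node 17227 tauT_22 tauT_23))) (BT.node 21155 (BT.node 18746 (BT.node 18240 tauT_24 tauT_25) (BT.node 20648 tauT_26 tauT_27)) (BT.node 22167 (BT.node 21661 tauT_28 tauT_29) (BT.node 22673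 tauT_30 tauT_31))))) 12 9 21 0x1fffff 511 c i
  stpS := fun c i => bget2 (BT.node 5446 (BT.node 2025 (BT.node 1012 (BT.node 506 (BT.node 253 stpST_0 stpST_1) (BT.node 759 stpST_2 stpST_3)) (BT.node 1518 (BT.node 1265 stpST_4 stpST_5) (BT.node 1771 stpST_6 stpST_7))) (BT.node 4433 (BT.node 2531 (BT.node 2278 stpST_8 stpST_9) (BT.node 4180 stpST_10 stpST_11)) (BT.node 4939 (BT.node 4686 stpST_12 stpST_13) (BT.node 5192 stpST_14 stpST_15)))) (BT.node 8867 (BT.node 6458 (BT.node 5952 (BT.node 5699 stpST_16 stpST_17) (BT.node 6205 stpST_18 stpST_19)) (BT.node 8360 (BT.node 6711 stpST_20 stpST_21) (BT.node 8613 stpST_22 stpST_23))) (BT.node 9879 (BT.node 9373 (BT.node 9120 stpST_24 stpST_25) (BT.node 9626 stpST_26 stpST_27)) (BT.node 10385 (BT.node 10132 stpST_28 stpST_29)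 (BT.node 10638 stpST_30 stpST_31))))) 12 9 24 0xffffff 511 c i
  cerS := fun c i => bget2 (BT.node 2723 (BT.node 1012 (BT.node 506 cerST_0 cerST_1) (BT.node 2216 cerST_2 cerST_3)) (BT.node 4433 (BT.node 3229 cerST_4 cerST_5) (BT.node 4939 cerST_6 cerST_7))) 11 10 9 0x1ff 1023 c i
  labS := fun c i => bget2 (BT.node 10892 (BT.node 4050 (BT.node 2025 (BT.node 1012 (BT.node 506 (BT.node 253 labST_0 labST_1) (BT.node 759 labST_2 labST_3)) (BT.node 1518 (BT.node 1265 labST_4 labST_5) (BT.node 1771 labST_6 labST_7))) (BT.node 3037 (BT.node 2531 (BT.node 2278 labST_8 labST_9) (BT.node 2784 labST_10 labST_11)) (BT.node 3543 (BT.node 3290 labST_12 labST_13) (BT.node 3796 labST_14 labST_15)))) (BT.node 8867 (BT.node 5062 (BT.node 4556 (BT.node 4303 labST_16 labST_17) (BT.node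 4809 labST_18 labST_19)) (BT.node 8360 (BT.node 5315 labST_20 labST_21) (BT.node 8613 labST_22 labST_23))) (BT.node 9879 (BT.node 9373 (BT.node 9120 labST_24 labST_25) (BT.node 9626 labST_26 labST_27)) (BT.node 10385 (BT.node 10132 labST_28 labST_29) (BT.node 10638 labST_30 labST_31))))) (BT.node 17734 (BT.node 12917 (BT.node 11904 (BT.node 11398 (BT.node 11145 labST_32 labST_33) (BT.node 11651 labST_34 labST_35)) (BT.node 12410 (BT.node 12157 labST_36 labST_37) (BT.node 12663 labST_38 labST_39))) (BT.node 16721 (BT.node 13423 (BT.node 13170 labST_40 labST_41) (BT.node 16468 labST_42 labST_43)) (BT.node 17227 (BT.node 16974 labST_44 labST_45) (BT.node 17480 labST_46 labST_47)))) (BT.node 19759 (BT.node 18746 (BT.node 18240 (BT.node 17987 labST_48 labST_49) (BT.node 18493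 labST_50 labST_51)) (BT.node 19252 (BT.node 18999 labST_52 labST_53) (BT.node 19505 labST_54 labST_55))) (BT.node 20771 (BT.node 20265 (BT.node 20012 labST_56 labST_57) (BT.node 20518 labST_58 labST_59)) (BT.node 21277 (BT.node 21024 labST_60 labST_61) (BT.node 21530 labST_62 labST_63)))))) 13 8 57 0x1ffffffffffffff 255 c i
  pn := fun i => bget (BT.node 1350 (BT.node 675 (BT.node 337 pnT_0 pnT_1) (BT.node 1012 pnT_2 pnT_3)) (BT.node 2025 (BT.node 1687 pnT_4 pnT_5) (BT.node 2362 pnT_6 pnT_7))) 9 21 0x1fffff 511 i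
  pc := fun i => bget pcT_0 12 3 0x7 4095 i
  rk := fun i => i
  nrot := 53
  rotH := fun i => rotHT.get i
  rotB := fun i => rotBT.getF i
  rotAN := fun i => rotANT.get i
  hcols := [4]

theorem ptab_ok : ptab.OK where
  hB := by decide +kernel
  hG := by decide +kernel
  hG2 := by decide +kernel
  hw := by decide +kernel
  ht2 := by decide +kernel
  hq := by decide +kernel
  hQ := by decide +kernel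

/-- The table with unpacked labels. -/
noncomputable def tab : LTab := ptab.toLTab

end Cfsg.Agent.Helper9.TCData.TTP0
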