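import Cfsg.Agent.Lib.Helper9.TCData.TTP0.Main

set_option autoImplicit false
set_option maxRecDepth 1000000

namespace Cfsg.Agent.Helper9.TCData.TTP0
open Cfsg.Agent.Helper9.TC2 Cfsg.Agent.Helper9.LTC Cfsg.Agent.Helper9.LTCM Cfsg.Agent.Helper9.LTCP Cfsg.Agent.Helper9.TCData

theorem e3_532480 : allRange 532480 4096 (fun x => chkEntP ptab 3 x) = true := by decide +kernel

theorem e3_536576 : allRange 536576 4096 (fun x => chkEntP ptab 3 x) = true := by decide +kernel

theorem e3_540672 : allRange 540672 4096 (fun x => chkEntP ptab 3 x) = true := by decide +kernel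

theorem e3_544768 : allRange 544768 4096 (fun x => chkEntP ptab 3 x) = true := by decide +kernel

theorem e3_548864 : allRange 548864 4096 (fun x => chkEntP ptab 3 x) = true := by decide +kernel

theorem e3_552960 : allRange 552960 4096 (fun x => chkEntP ptab 3 x) = true := by decide +kernel

theorem e3_557056 : allRange 557056 4096 (fun x => chkEntP ptab 3 x) = true := by decide +kernel

theorem e3_561152 : allRange 561152 4096 (fun x => chkEntP ptab 3 x) = true := by decide +kernel

end Cfsg.Agent.Helper9.TCData.TTP0
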