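import Cfsg.Agent.Lib.Helper9.TCData.TTP0.Main

set_option autoImplicit false
set_option maxRecDepth 1000000

namespace Cfsg.Agent.Helper9.TCData.TTP0
open Cfsg.Agent.Helper9.TC2 Cfsg.Agent.Helper9.LTC Cfsg.Agent.Helper9.LTCM Cfsg.Agent.Helper9.LTCP Cfsg.Agent.Helper9.TCData

theorem e5_516096 : allRange 516096 4096 (fun x => chkEntP ptab 5 x) = true := by decide +kernel

theorem e5_520192 : allRange 520192 4096 (fun x => chkEntP ptab 5 x) = true := by decide +kernel

theorem e5_524288 : allRange 524288 4096 (fun x => chkEntP ptab 5 x) = true := by decide +kernel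

theorem e5_528384 : allRange 528384 4096 (fun x => chkEntP ptab 5 x) = true := by decide +kernel

theorem e5_532480 : allRange 532480 4096 (fun x => chkEntP ptab 5 x) = true := by decide +kernel

theorem e5_536576 : allRange 536576 4096 (fun x => chkEntP ptab 5 x) = true := by decide +kernel

theorem e5_540672 : allRange 540672 4096 (fun x => chkEntP ptab 5 x) = true := by decide +kernel

theorem e5_544768 : allRange 544768 4096 (fun x => chkEntP ptab 5 x) = true := by decide +kernel

end Cfsg.Agent.Helper9.TCData.TTP0
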