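import Cfsg.Agent.Lib.Helper9.TCData.TTP0.Main

set_option autoImplicit false
set_option maxRecDepth 1000000

namespace Cfsg.Agent.Helper9.TCData.TTP0
open Cfsg.Agent.Helper9.TC2 Cfsg.Agent.Helper9.LTC Cfsg.Agent.Helper9.LTCM Cfsg.Agent.Helper9.LTCP Cfsg.Agent.Helper9.TCData

theorem e0_753664 : allRange 753664 4096 (fun x => chkEntP ptab 0 x) = true := by decide +kernel

theorem e0_757760 : allRange 757760 4096 (fun x => chkEntP ptab 0 x) = true := by decide +kernel

theorem e0_761856 : allRange 761856 4096 (fun x => chkEntP ptab 0 x) = true := by decide +kernel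

theorem e0_765952 : allRange 765952 4096 (fun x => chkEntP ptab 0 x) = true := by decide +kernel

theorem e0_770048 : allRange 770048 4096 (fun x => chkEntP ptab 0 x) = true := by decide +kernel

theorem e0_774144 : allRange 774144 4096 (fun x => chkEntP ptab 0 x) = true := by decide +kernel

theorem e0_778240 : allRange 778240 4096 (fun x => chkEntP ptab 0 x) = true := by decide +kernel

theorem e0_782336 : allRange 782336 4096 (fun x => chkEntP ptab 0 x) = true := by decide +kernel

end Cfsg.Agent.Helper9.TCData.TTP0
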