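import Cfsg.Agent.Lib.Helper9.TCData.TTP0.Main

set_option autoImplicit false
set_option maxRecDepth 1000000

namespace Cfsg.Agent.Helper9.TCData.TTP0
open Cfsg.Agent.Helper9.TC2 Cfsg.Agent.Helper9.LTC Cfsg.Agent.Helper9.LTCM Cfsg.Agent.Helper9.LTCP Cfsg.Agent.Helper9.TCData

theorem e5_1302528 : allRange 1302528 4096 (fun x => chkEntP ptab 5 x) = true := by decide +kernel

theorem e5_1306624 : allRange 1306624 4096 (fun x => chkEntP ptab 5 x) = true := by decide +kernel

theorem e5_1310720 : allRange 1310720 4096 (fun x => chkEntP ptab 5 x) = true := by decide +kernel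

theorem e5_1314816 : allRange 1314816 4096 (fun x => chkEntP ptab 5 x) = true := by decide +kernel

theorem e5_1318912 : allRange 1318912 4096 (fun x => chkEntP ptab 5 x) = true := by decide +kernel

theorem e5_1323008 : allRange 1323008 4096 (fun x => chkEntP ptab 5 x) = true := by decide +kernel

theorem e5_1327104 : allRange 1327104 4096 (fun x => chkEntP ptab 5 x) = true := by decide +kernel

theorem e5_1331200 : allRange 1331200 4096 (fun x => chkEntP ptab 5 x) = true := by decide +kernel

end Cfsg.Agent.Helper9.TCData.TTP0
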