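import Cfsg.Agent.Lib.Helper9.TCData.TTP0.Main

set_option autoImplicit false
set_option maxRecDepth 1000000

namespace Cfsg.Agent.Helper9.TCData.TTP0
open Cfsg.Agent.Helper9.TC2 Cfsg.Agent.Helper9.LTC Cfsg.Agent.Helper9.LTCM Cfsg.Agent.Helper9.LTCP Cfsg.Agent.Helper9.TCData

theorem e1_942080 : allRange 942080 4096 (fun x => chkEntP ptab 1 x) = true := by decide +kernel

theorem e1_946176 : allRange 946176 4096 (fun x => chkEntP ptab 1 x) = true := by decide +kernel

theorem e1_950272 : allRange 950272 4096 (fun x => chkEntP ptab 1 x) = true := by decide +kernel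

theorem e1_954368 : allRange 954368 4096 (fun x => chkEntP ptab 1 x) = true := by decide +kernel

theorem e1_958464 : allRange 958464 4096 (fun x => chkEntP ptab 1 x) = true := by decide +kernel

theorem e1_962560 : allRange 962560 4096 (fun x => chkEntP ptab 1 x) = true := by decide +kernel

theorem e1_966656 : allRange 966656 4096 (fun x => chkEntP ptab 1 x) = true := by decide +kernel

theorem e1_970752 : allRange 970752 4096 (fun x => chkEntP ptab 1 x) = true := by decide +kernel

end Cfsg.Agent.Helper9.TCData.TTP0
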