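import Cfsg.Agent.Lib.Helper9.TCData.TTP0.Main

set_option autoImplicit false
set_option maxRecDepth 1000000

namespace Cfsg.Agent.Helper9.TCData.TTP0
open Cfsg.Agent.Helper9.TC2 Cfsg.Agent.Helper9.LTC Cfsg.Agent.Helper9.LTCM Cfsg.Agent.Helper9.LTCP Cfsg.Agent.Helper9.TCData

theorem e2_344064 : allRange 344064 4096 (fun x => chkEntP ptab 2 x) = true := by decide +kernel

theorem e2_348160 : allRange 348160 4096 (fun x => chkEntP ptab 2 x) = true := by decide +kernel

theorem e2_352256 : allRange 352256 4096 (fun x => chkEntP ptab 2 x) = true := by decide +kernel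

theorem e2_356352 : allRange 356352 4096 (fun x => chkEntP ptab 2 x) = true := by decide +kernel

theorem e2_360448 : allRange 360448 4096 (fun x => chkEntP ptab 2 x) = true := by decide +kernel

theorem e2_364544 : allRange 364544 4096 (fun x => chkEntP ptab 2 x) = true := by decide +kernel

theorem e2_368640 : allRange 368640 4096 (fun x => chkEntP ptab 2 x) = true := by decide +kernel

theorem e2_372736 : allRange 372736 4096 (fun x => chkEntP ptab 2 x) = true := by decide +kernel

end Cfsg.Agent.Helper9.TCData.TTP0
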